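import Groth.Agent.L14.PPSmooth.LocQR
import Mathlib.RingTheory.Flat.FaithfullyFlat.Algebra
import Mathlib.RingTheory.Flat.EquationalCriterion
import Mathlib.RingTheory.Ideal.GoingDown
import Mathlib.RingTheory.Finiteness.Descent
import Mathlib.LinearAlgebra.Matrix.NonsingularInverse
import Mathlib.LinearAlgebra.Matrix.Rank

/-!
Faithfully flat descent of local quasi-regularity of an ideal.
-/

set_option autoImplicit false
set_option linter.style.haveILetI false

noncomputable section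

universe u

open MvPolynomial

namespace Groth.L14.LocQR

variable {R : Type u} [CommRing R] {J : Ideal R}

theorem isLocallyQuasiRegular_fg (hJ : PP16.IsLocallyQuasiRegular R J) : J.FG := by
  classical
  have hex : ∀ Q : PrimeSpectrum R, ∃ (g : R) (r : ℕ) (h : Fin r → R),
      g ∉ Q.asIdeal ∧ (J ≤ Q.asIdeal → Gen J g h) ∧ (¬ J ≤ Q.asIdeal → g ∈ J) := by
    intro Q
    by_cases h : J ≤ Q.asIdeal
    · obtain ⟨g, hg, -, r, f, hf, -⟩ := exists_data hJ Q.asIdeal h 1
        (fun h1 => Q.isPrime.ne_top ((Ideal.eq_top_iff_one _).mpr h1))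
      exact ⟨g, r, f, hg, fun _ => hf, fun h' => absurd h h'⟩
    · obtain ⟨x, hxJ, hxQ⟩ := SetLike.not_le_iff_exists.mp h
      exact ⟨x, 0, Fin.elim0, hxQ, fun h' => absurd h' h, fun _ => hxJ⟩
  choose g r f hg hgen hout using hex
  have hspan : Ideal.span (Set.range g) = ⊤ := by
    by_contra hne
    obtain ⟨M, hM, hle⟩ := Ideal.exists_le_maximal _ hne
    exact hg ⟨M, hM.isPrime⟩ (hle (Ideal.subset_span ⟨⟨M, hM.isPrime⟩, rfl⟩))
  obtain ⟨t, ht, h1⟩ := Submodule.mem_span_finite_of_mem_span ((Ideal.eq_top_iff_one _).mp hspan)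
  choose q hq using fun x : t => ht x.2
  let T : Finset R :=
    Finset.univ.biUnion fun x : t => if J ≤ (q x).asIdeal then Finset.univ.image (f (q x)) else {g (q x)}
  refine ⟨T, le_antisymm (Ideal.span_le.mpr ?_) ?_⟩
  · intro y hy
    obtain ⟨x, -, hx⟩ := Finset.mem_biUnion.mp hy
    split_ifs at hx with hc
    · obtain ⟨i, -, rfl⟩ := Finset.mem_image.mp hx
      exact (hgen _ hc).1 i
    · rw [Finset.mem_singleton] at hx
      exact hx ▸ hout _ hc
  · intro y hy
    have key : ∀ x ∈ t, ∃ N : ℕ, x ^ N * y ∈ Ideal.span (T : Set R) := by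
      intro x hx
      by_cases hc : J ≤ (q ⟨x, hx⟩).asIdeal
      · obtain ⟨N, hN⟩ := (hgen _ hc).2 y hy
        rw [hq ⟨x, hx⟩] at hN
        refine ⟨N, Ideal.span_mono ?_ hN⟩
        rintro _ ⟨i, rfl⟩
        refine Finset.mem_coe.mpr (Finset.mem_biUnion.mpr ⟨⟨x, hx⟩, Finset.mem_univ _, ?_⟩)
        rw [if_pos hc]
        exact Finset.mem_image_of_mem _ (Finset.mem_univ i)
      · refine ⟨1, ?_⟩
        rw [pow_one]
        refine Ideal.mul_mem_right _ _ (Ideal.subset_span ?_)
        refine Finset.mem_coe.mpr (Finset.mem_biUnion.mpr ⟨⟨x, hx⟩, Finset.mem_univ _, ?_⟩)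
        rw [if_neg hc, Finset.mem_singleton]
        exact (hq ⟨x, hx⟩).symm
    choose! N hN using key
    have htop : Ideal.span ((fun x => x ^ (t.sup N)) '' (t : Set R)) = ⊤ :=
      Ideal.span_pow_eq_top _ ((Ideal.eq_top_iff_one _).mpr h1) _
    have h1' : (1 : R) ∈ Ideal.span ((fun x => x ^ (t.sup N)) '' (t : Set R)) := htop ▸ Submodule.mem_top
    rw [← mul_one y]
    refine Submodule.span_induction (p := fun a _ => y * a ∈ Ideal.span (T : Set R)) ?_ (by simp)
      (fun a b _ _ ha hb => by rw [mul_add]; exact add_mem ha hb)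
      (fun c a _ ha => by rw [smul_eq_mul, mul_left_comm]; exact Ideal.mul_mem_left _ c ha) h1'
    rintro _ ⟨x, hx, rfl⟩
    obtain ⟨k, hk⟩ := Nat.exists_eq_add_of_le (Finset.le_sup (f := N) hx)
    change y * x ^ t.sup N ∈ _
    rw [hk, pow_add, ← mul_assoc, mul_comm y]
    exact Ideal.mul_mem_right _ _ (hN x hx)

variable (J) in
/-- The ideal of coefficients of relations. -/
def relIdeal {m : ℕ} (f : Fin m → R) : Ideal R :=
  Ideal.span {x | ∃ a : Fin m → R, ∑ j, a j * f j = 0 ∧ ∃ i, a i = x}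

variable {B : Type u} [CommRing B] [Algebra R B]

theorem rel_mem_relIdeal [Module.Flat R B] {m : ℕ} {f : Fin m → R} {b : Fin m → B}
    (hb : ∑ j, b j * algebraMap R B (f j) = 0) (i : Fin m) : b i ∈ (relIdeal f).map (algebraMap R B) := by
  classical
  obtain ⟨k, a, y, hby, ha⟩ := Module.Flat.isTrivialRelation_of_sum_smul_eq_zero (f := f) (x := b) (by
    rw [← hb]
    exact Finset.sum_congr rfl fun j _ => by rw [Algebra.smul_def, mul_comm])
  rw [hby i]
  refine Ideal.sum_mem _ fun j _ => ?_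
  rw [Algebra.smul_def]
  refine Ideal.mul_mem_right _ _ (Ideal.mem_map_of_mem _ (Ideal.subset_span ⟨fun i' => a i' j, ?_, i, rfl⟩))
  exact (Finset.sum_congr rfl fun i' _ => mul_comm _ _).trans (ha j)

/-- Both families generate on `D(g)`: transition matrices and their consequences at a prime. -/
theorem matrices {g : R} {r m : ℕ} {h : Fin r → R} {f : Fin m → R} (hh : Gen J g h) (hq : QRg J g h)
    (hf : Gen J g f) :
    ∃ (U : Matrix (Fin m) (Fin r) R) (V : Matrix (Fin r) (Fin m) R) (c : R), (∃ N : ℕ, c = g ^ N) ∧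
      (∀ j, c * f j = ∑ i, U j i * h i) ∧
      (∀ (P : Ideal R) [P.IsPrime], J ≤ P → g ∉ P →
        (V.map (Ideal.Quotient.mk P)) * (U.map (Ideal.Quotient.mk P)) =
          (Ideal.Quotient.mk P (c * c)) • (1 : Matrix (Fin r) (Fin r) (R ⧸ P))) ∧
      (∀ j, ∑ k, (U * V) j k * f k = c * c * f j) := by
  classical
  choose N₁ hN₁ using fun j => hh.2 (f j) (hf.1 j)
  choose N₂ hN₂ using fun i => hf.2 (h i) (hh.1 i)
  let N := ∑ j, N₁ j + ∑ i, N₂ i
  have hU : ∀ j, g ^ N * f j ∈ Ideal.span (Set.range h) := fun j => by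
    obtain ⟨k, hk⟩ := Nat.exists_eq_add_of_le
      ((Finset.single_le_sum (fun j _ => Nat.zero_le (N₁ j)) (Finset.mem_univ j)).trans
        (Nat.le_add_right _ (∑ i, N₂ i)))
    rw [show N = N₁ j + k from hk, pow_add, mul_comm (g ^ N₁ j), mul_assoc]
    exact Ideal.mul_mem_left _ _ (hN₁ j)
  have hV : ∀ i, g ^ N * h i ∈ Ideal.span (Set.range f) := fun i => by
    obtain ⟨k, hk⟩ := Nat.exists_eq_add_of_le
      ((Finset.single_le_sum (fun j _ => Nat.zero_le (N₂ j)) (Finset.mem_univ i)).trans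
        (Nat.le_add_left _ (∑ j, N₁ j)))
    rw [show N = N₂ i + k from hk, pow_add, mul_comm (g ^ N₂ i), mul_assoc]
    exact Ideal.mul_mem_left _ _ (hN₂ i)
  choose U hUe using fun j => Ideal.mem_span_range_iff_exists_fun.mp (hU j)
  choose V hVe using fun i => Ideal.mem_span_range_iff_exists_fun.mp (hV i)
  refine ⟨Matrix.of U, Matrix.of V, g ^ N, ⟨N, rfl⟩, fun j => (hUe j).symm, fun P _ hJP hgP => ?_, fun j => ?_⟩
  · have e1 : ∀ i, ∑ k, (Matrix.of V * Matrix.of U) i k * h k = g ^ N * g ^ N * h i := fun i => by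
      simp only [Matrix.mul_apply, Matrix.of_apply, Finset.sum_mul]
      rw [Finset.sum_comm]
      calc ∑ x, ∑ k, V i x * U x k * h k = ∑ x, V i x * (g ^ N * f x) :=
            Finset.sum_congr rfl fun x _ => by
              rw [← hUe x, Finset.mul_sum]
              exact Finset.sum_congr rfl fun k _ => mul_assoc _ _ _
        _ = g ^ N * ∑ x, V i x * f x := by
              rw [Finset.mul_sum]; exact Finset.sum_congr rfl fun x _ => mul_left_comm _ _ _
        _ = g ^ N * g ^ N * h i := by rw [hVe i, mul_assoc]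
    rw [← Matrix.map_mul]
    ext i k
    obtain ⟨M, hM⟩ := hq.rel (a := fun k => (Matrix.of V * Matrix.of U) i k - if k = i then g ^ N * g ^ N else 0) (by
      simp only [sub_mul, Finset.sum_sub_distrib, e1, ite_mul, zero_mul, Finset.sum_ite_eq', Finset.mem_univ,
        if_true, sub_self]) k
    have h2 := (Ideal.IsPrime.mem_or_mem ‹P.IsPrime› (hJP hM)).resolve_left fun h' =>
      hgP (Ideal.IsPrime.mem_of_pow_mem ‹P.IsPrime› _ h')
    rw [Matrix.map_apply, Ideal.Quotient.eq.mpr h2]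
    by_cases hik : k = i
    · subst hik; simp
    · simp [hik, Ne.symm hik]
  · simp only [Matrix.mul_apply, Matrix.of_apply, Finset.sum_mul]
    rw [Finset.sum_comm]
    calc ∑ x, ∑ k, U j x * V x k * f k = ∑ x, U j x * (g ^ N * h x) :=
          Finset.sum_congr rfl fun x _ => by
            rw [← hVe x, Finset.mul_sum]
            exact Finset.sum_congr rfl fun k _ => mul_assoc _ _ _
      _ = g ^ N * ∑ x, U j x * h x := by
            rw [Finset.mul_sum]; exact Finset.sum_congr rfl fun x _ => mul_left_comm _ _ _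
      _ = g ^ N * g ^ N * f j := by rw [hUe j, mul_assoc]

theorem le_of_mul_eq_scalar {K : Type*} [CommRing K] [IsDomain K] {r m : ℕ} (V : Matrix (Fin r) (Fin m) K)
    (U : Matrix (Fin m) (Fin r) K) {c : K} (hc : c ≠ 0) (h : V * U = c • 1) : r ≤ m := by
  classical
  let L := FractionRing K
  have h' : (V.map (algebraMap K L)) * (U.map (algebraMap K L)) = algebraMap K L c • (1 : Matrix (Fin r) (Fin r) L) := by
    rw [← Matrix.map_mul, h]
    ext i j
    by_cases hij : i = j <;> simp [hij]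
  have hinj : Function.Injective (Matrix.toLin' (U.map (algebraMap K L))) := by
    intro x y hxy
    have := congrArg (Matrix.toLin' (V.map (algebraMap K L))) hxy
    rw [← LinearMap.comp_apply, ← LinearMap.comp_apply, ← Matrix.toLin'_mul, h', map_smul,
      Matrix.toLin'_one, LinearMap.smul_apply, LinearMap.id_apply, LinearMap.smul_apply, LinearMap.id_apply] at this
    exact smul_right_injective _ (by simpa using hc) this
  simpa using LinearMap.finrank_le_finrank_of_injective hinj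

variable {A : Type u} [CommRing A] [Algebra A B] [Module.FaithfullyFlat A B] {I : Ideal A}

/-- Descent along a faithfully flat map. -/
theorem descent (h : PP16.IsLocallyQuasiRegular B (I.map (algebraMap A B))) :
    PP16.IsLocallyQuasiRegular A I := by
  classical
  have hfg : I.FG := Ideal.FG.of_FG_map_of_faithfullyFlat (S := B) (isLocallyQuasiRegular_fg h)
  have hcomap : ∀ K : Ideal A, (K.map (algebraMap A B)).comap (algebraMap A B) = K :=
    fun K => K.comap_map_eq_self_of_faithfullyFlat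
  refine isLocallyQuasiRegular_of_data fun P hPp hIP => ?_
  haveI := hPp
  have hone : (1 : A) ∉ P := fun h1 => hPp.ne_top ((Ideal.eq_top_iff_one _).mpr h1)
  have hS : ∃ (m : ℕ) (f : Fin m → A) (u : A), u ∉ P ∧ Gen I u f := by
    obtain ⟨s, hs⟩ := hfg
    refine ⟨s.card, fun i => (s.equivFin.symm i : A), 1, hone,
      fun i => hs ▸ Ideal.subset_span (s.equivFin.symm i).2, fun x hx => ⟨0, ?_⟩⟩
    rw [pow_zero, one_mul, show Set.range (fun i => (s.equivFin.symm i : A)) = (s : Set A) by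
      ext y; exact ⟨fun ⟨i, hi⟩ => hi ▸ (s.equivFin.symm i).2, fun hy => ⟨s.equivFin ⟨y, hy⟩, by simp⟩⟩]
    exact hs.ge hx
  let m := Nat.find hS
  obtain ⟨f, u, hu, hfu⟩ := Nat.find_spec hS
  have hK : relIdeal f ≤ P := by
    refine Ideal.span_le.mpr ?_
    rintro _ ⟨a, ha, i, rfl⟩
    by_contra hai
    have hm : 0 < m := Nat.lt_of_le_of_lt (Nat.zero_le _) i.2
    obtain ⟨m', hm'⟩ := Nat.exists_eq_succ_of_ne_zero hm.ne'
    let e : Fin (m' + 1) ≃ Fin m := finCongr hm'.symm
    refine Nat.find_min hS (m := m') (by omega) ⟨fun k => f (e ((e.symm i).succAbove k)), u * a i,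
      fun h' => (hPp.mem_or_mem h').elim hu hai, fun k => hfu.1 _, fun x hx => ?_⟩
    obtain ⟨N, hN⟩ := hfu.2 x hx
    refine ⟨N + 1, ?_⟩
    have hfi : ∀ y ∈ Ideal.span (Set.range f),
        a i * y ∈ Ideal.span (Set.range fun k => f (e ((e.symm i).succAbove k))) := by
      intro y hy
      refine Submodule.span_induction (p := fun y _ => a i * y ∈
          Ideal.span (Set.range fun k => f (e ((e.symm i).succAbove k)))) ?_ (by simp)
        (fun a b _ _ ha hb => by rw [mul_add]; exact add_mem ha hb)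
        (fun c a _ ha => by rw [smul_eq_mul, mul_left_comm]; exact Ideal.mul_mem_left _ c ha) hy
      rintro _ ⟨j, rfl⟩
      have hmem : ∀ j', j' ≠ i → f j' ∈ Ideal.span (Set.range fun k => f (e ((e.symm i).succAbove k))) := by
        intro j' hj'
        obtain ⟨k, hk⟩ := Fin.exists_succAbove_eq (x := e.symm j') (y := e.symm i)
          (fun h' => hj' (e.symm.injective h'))
        exact Ideal.subset_span ⟨k, by
          change f (e ((e.symm i).succAbove k)) = f j'
          rw [hk, e.apply_symm_apply]⟩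
      by_cases hji : j = i
      · subst hji
        rw [← Finset.add_sum_erase _ _ (Finset.mem_univ j)] at ha
        rw [eq_neg_of_add_eq_zero_left ha]
        exact neg_mem (Ideal.sum_mem _ fun j' hj' => Ideal.mul_mem_left _ _ (hmem j' (Finset.ne_of_mem_erase hj')))
      · exact Ideal.mul_mem_left _ _ (hmem j hji)
    rw [show (u * a i) ^ (N + 1) * x = (u * a i ^ N) * (a i * (u ^ N * x)) by ring]
    exact Ideal.mul_mem_left _ _ (hfi _ hN)
  let fB : Fin m → B := fun j => algebraMap A B (f j)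
  have hfB : Gen (I.map (algebraMap A B)) (algebraMap A B u) fB := by
    refine ⟨fun j => Ideal.mem_map_of_mem _ (hfu.1 j), fun x hx => ?_⟩
    refine Submodule.span_induction (p := fun y _ => ∃ N : ℕ, algebraMap A B u ^ N * y ∈ Ideal.span (Set.range fB))
      ?_ ⟨0, by simp⟩ ?_ ?_ hx
    · rintro _ ⟨x, hx', rfl⟩
      obtain ⟨N, hN⟩ := hfu.2 x hx'
      refine ⟨N, ?_⟩
      rw [← map_pow, ← map_mul]
      have h2 := Ideal.mem_map_of_mem (algebraMap A B) hN
      rw [Ideal.map_span, ← Set.range_comp] at h2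
      exact h2
    · rintro a b - - ⟨N, hN⟩ ⟨M, hM⟩
      refine ⟨N + M, ?_⟩
      rw [mul_add, pow_add]
      refine add_mem ?_ ?_
      · rw [mul_right_comm]; exact Ideal.mul_mem_right _ _ hN
      · rw [mul_assoc]; exact Ideal.mul_mem_left _ _ hM
    · rintro c a - ⟨N, hN⟩
      exact ⟨N, by rw [smul_eq_mul, mul_left_comm]; exact Ideal.mul_mem_left _ _ hN⟩
  -- at a prime of `B` with `relIdeal f` below it the family is quasi-regular nearby
  have hlocal : ∀ Q : Ideal B, Q.IsPrime → I.map (algebraMap A B) ≤ Q → algebraMap A B u ∉ Q →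
      (relIdeal f).map (algebraMap A B) ≤ Q →
      ∃ g : B, g ∉ Q ∧ algebraMap A B u ∣ g ∧ QRg (I.map (algebraMap A B)) g fB ∧
        ∀ (Q' : Ideal B) [Q'.IsPrime], I.map (algebraMap A B) ≤ Q' → g ∉ Q' →
          (relIdeal f).map (algebraMap A B) ≤ Q' := by
    intro Q hQp hIQ huQ hKQ
    haveI := hQp
    obtain ⟨g, hgQ, ⟨w, hw⟩, r, hh, hgen, hq⟩ := exists_data h Q hIQ _ huQ
    have hfg' : Gen (I.map (algebraMap A B)) g fB := hw ▸ hfB.mul w
    obtain ⟨U, V, c, ⟨N, hc⟩, hUf, hVU, hUV⟩ := matrices hgen hq hfg'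
    have hcQ : ∀ (Q' : Ideal B) [Q'.IsPrime], g ∉ Q' → Ideal.Quotient.mk Q' (c * c) ≠ 0 := fun Q' _ hg' h0 => by
      rw [Ideal.Quotient.eq_zero_iff_mem] at h0
      rcases Ideal.IsPrime.mem_or_mem ‹Q'.IsPrime› h0 with h' | h' <;>
        exact hg' (Ideal.IsPrime.mem_of_pow_mem ‹Q'.IsPrime› _ (hc ▸ h'))
    have hrm : r ≤ m := le_of_mul_eq_scalar _ _ (hcQ Q hgQ) (hVU Q hIQ hgQ)
    have hmr : m ≤ r := by
      refine le_of_mul_eq_scalar (U.map (Ideal.Quotient.mk Q)) (V.map (Ideal.Quotient.mk Q)) (hcQ Q hgQ) ?_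
      rw [← Matrix.map_mul]
      ext j k
      have h0 : (U * V) j k - (if k = j then c * c else 0) ∈ (relIdeal f).map (algebraMap A B) := by
        refine rel_mem_relIdeal (b := fun k => (U * V) j k - if k = j then c * c else 0) ?_ k
        change ∑ k, ((U * V) j k - if k = j then c * c else 0) * fB k = 0
        simp only [sub_mul, Finset.sum_sub_distrib, hUV, ite_mul, zero_mul, Finset.sum_ite_eq', Finset.mem_univ,
          if_true, sub_self]
      rw [Matrix.map_apply, Ideal.Quotient.eq.mpr (hKQ h0)]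
      by_cases hjk : k = j
      · subst hjk; simp
      · simp [hjk, Ne.symm hjk]
    obtain rfl : r = m := le_antisymm hrm hmr
    refine ⟨g, hgQ, ⟨w, hw⟩, hq.change hgen hfg', fun Q' _ hIQ' hgQ' => ?_⟩
    rw [Ideal.map_le_iff_le_comap, relIdeal, Ideal.span_le]
    rintro _ ⟨a, ha, i, rfl⟩
    have hrel : ∑ i, (∑ j, algebraMap A B (a j) * U j i) * hh i = 0 := by
      simp only [Finset.sum_mul, mul_assoc]
      rw [Finset.sum_comm]
      simp only [← Finset.mul_sum, ← hUf, fB]
      have h3 := congrArg (algebraMap A B) ha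
      rw [map_sum, map_zero] at h3
      simp only [map_mul] at h3
      rw [show (∑ j, algebraMap A B (a j) * (c * algebraMap A B (f j))) =
        c * ∑ j, algebraMap A B (a j) * algebraMap A B (f j) by
        rw [Finset.mul_sum]; exact Finset.sum_congr rfl fun j _ => mul_left_comm _ _ _, h3, mul_zero]
    let av : Fin m → B ⧸ Q' := fun j => Ideal.Quotient.mk Q' (algebraMap A B (a j))
    have hav : Matrix.vecMul av (U.map (Ideal.Quotient.mk Q')) = 0 := by
      funext i
      obtain ⟨M, hM⟩ := hq.rel hrel i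
      have h2 := (Ideal.IsPrime.mem_or_mem ‹Q'.IsPrime› (hIQ' hM)).resolve_left fun h' =>
        hgQ' (Ideal.IsPrime.mem_of_pow_mem ‹Q'.IsPrime› _ h')
      rw [Pi.zero_apply, ← Ideal.Quotient.eq_zero_iff_mem.mpr h2, map_sum]
      simp [Matrix.vecMul, dotProduct, av]
      rfl
    have hflip : (U.map (Ideal.Quotient.mk Q')) * (V.map (Ideal.Quotient.mk Q')) =
        Ideal.Quotient.mk Q' (c * c) • (1 : Matrix (Fin m) (Fin m) (B ⧸ Q')) := by
      have h1 := congrArg (fun M => M.map (algebraMap (B ⧸ Q') (FractionRing (B ⧸ Q')))) (hVU Q' hIQ' hgQ')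
      simp only [Matrix.map_mul] at h1
      have hne : algebraMap (B ⧸ Q') (FractionRing (B ⧸ Q')) (Ideal.Quotient.mk Q' (c * c)) ≠ 0 := by simpa using hcQ Q' hgQ'
      have h2 : ((algebraMap (B ⧸ Q') (FractionRing (B ⧸ Q')) (Ideal.Quotient.mk Q' (c * c)))⁻¹ •
          (V.map (Ideal.Quotient.mk Q')).map (algebraMap (B ⧸ Q') (FractionRing (B ⧸ Q')))) *
          ((U.map (Ideal.Quotient.mk Q')).map (algebraMap (B ⧸ Q') (FractionRing (B ⧸ Q')))) = 1 := by
        rw [Matrix.smul_mul, h1]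
        ext i j
        by_cases hij : i = j
        · subst hij; simpa using inv_mul_cancel₀ hne
        · simp [hij]
      have h3 := mul_eq_one_comm.mp h2
      apply Matrix.map_injective (FaithfulSMul.algebraMap_injective (B ⧸ Q') (FractionRing (B ⧸ Q')))
      simp only [Matrix.map_mul]
      rw [Matrix.mul_smul, inv_smul_eq_iff₀ hne] at h3
      rw [h3]
      ext i j
      by_cases hij : i = j <;> simp [hij]
    have h4 := congrArg (fun v => Matrix.vecMul v (V.map (Ideal.Quotient.mk Q'))) hav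
    simp only [Matrix.vecMul_vecMul, hflip, Matrix.zero_vecMul, Matrix.vecMul_smul, Matrix.vecMul_one] at h4
    have h5 := congrFun h4 i
    simp only [Pi.smul_apply, smul_eq_mul, Pi.zero_apply, mul_eq_zero] at h5
    exact Ideal.mem_comap.mpr (Ideal.Quotient.eq_zero_iff_mem.mp (h5.resolve_left (hcQ Q' hgQ')))
  let O : Set (PrimeSpectrum A) :=
    {P' | ¬ I ≤ P'.asIdeal ∨ (u ∉ P'.asIdeal ∧ relIdeal f ≤ P'.asIdeal)}
  have hO : IsOpen O := by
    have hquot : Topology.IsQuotientMap (PrimeSpectrum.comap (algebraMap A B)) :=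
      PrimeSpectrum.isQuotientMap_of_generalizingMap (PrimeSpectrum.comap_surjective_of_faithfullyFlat)
        (Algebra.HasGoingDown.iff_generalizingMap_primeSpectrumComap.mp inferInstance)
    rw [← hquot.isOpen_preimage, isOpen_iff_forall_mem_open]
    intro Q hQ
    by_cases hIQ : I.map (algebraMap A B) ≤ Q.asIdeal
    · obtain ⟨huQ, hKQ⟩ := hQ.resolve_left (fun h' => h' (Ideal.map_le_iff_le_comap.mp hIQ))
      obtain ⟨g, hgQ, ⟨w, hw⟩, -, hall⟩ :=
        hlocal Q.asIdeal Q.isPrime hIQ huQ (Ideal.map_le_iff_le_comap.mpr hKQ)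
      refine ⟨PrimeSpectrum.basicOpen g, fun Q' hQ' => ?_, (PrimeSpectrum.basicOpen g).isOpen, hgQ⟩
      by_cases hIQ' : I ≤ Q'.asIdeal.comap (algebraMap A B)
      · exact Or.inr ⟨fun h' => hQ' (hw ▸ Ideal.mul_mem_right w _ h'),
          Ideal.map_le_iff_le_comap.mp (hall Q'.asIdeal (Ideal.map_le_iff_le_comap.mpr hIQ') hQ')⟩
      · exact Or.inl hIQ'
    · obtain ⟨x, hxI, hxQ⟩ := SetLike.not_le_iff_exists.mp hIQ
      exact ⟨PrimeSpectrum.basicOpen x, fun Q' hQ' => Or.inl fun h' => hQ' (Ideal.map_le_iff_le_comap.mpr h' hxI),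
        (PrimeSpectrum.basicOpen x).isOpen, hxQ⟩
  obtain ⟨_, ⟨g₀, rfl⟩, hPg, hgO⟩ :=
    PrimeSpectrum.isTopologicalBasis_basic_opens.exists_subset_of_mem_open
      (show (⟨P, hPp⟩ : PrimeSpectrum A) ∈ O from Or.inr ⟨hu, hK⟩) hO
  refine ⟨u * g₀, fun h' => (hPp.mem_or_mem h').elim hu hPg, m, f, hfu.mul g₀, ?_⟩
  rintro n G hG ⟨N, hN⟩ d
  let Λ : Ideal B := (I.map (algebraMap A B)).colon ({algebraMap A B (G.coeff d)} : Set B)
  suffices hrad : algebraMap A B (u * g₀) ∈ Λ.radical by
    obtain ⟨M, hM⟩ := hrad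
    refine ⟨M, ?_⟩
    rw [← hcomap I, Ideal.mem_comap, map_mul, map_pow]
    exact Submodule.mem_colon_singleton.mp hM
  rw [Ideal.radical_eq_sInf, Submodule.mem_sInf]
  rintro Q' ⟨hΛ, hQp⟩
  haveI := hQp
  by_contra hgQ'
  have hIQ' : I.map (algebraMap A B) ≤ Q' := fun x hx =>
    hΛ (Submodule.mem_colon_singleton.mpr (Ideal.mul_mem_right _ _ hx))
  have huQ' : algebraMap A B u ∉ Q' := fun h' => hgQ' (by rw [map_mul]; exact Ideal.mul_mem_right _ _ h')
  have hgQ₀ : g₀ ∉ Ideal.comap (algebraMap A B) Q' := fun h' =>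
    hgQ' (by rw [map_mul]; exact Ideal.mul_mem_left _ _ h')
  have hmemO : (⟨Ideal.comap (algebraMap A B) Q', inferInstance⟩ : PrimeSpectrum A) ∈ O := hgO hgQ₀
  obtain ⟨-, hKQ'⟩ := hmemO.resolve_left (fun h' => h' (Ideal.map_le_iff_le_comap.mp hIQ'))
  obtain ⟨g, hgQ, -, hqf, -⟩ := hlocal Q' hQp hIQ' huQ' (Ideal.map_le_iff_le_comap.mpr hKQ')
  have hG' := Ideal.mem_map_of_mem (algebraMap A B) hN
  rw [map_mul, map_pow, Ideal.map_pow] at hG'
  have hev : algebraMap A B (eval f G) = eval fB (MvPolynomial.map (algebraMap A B) G) := by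
    rw [eval_map, eval₂_comp]; rfl
  rw [hev] at hG'
  obtain ⟨M, hM⟩ := (hqf.mul (algebraMap A B (u * g₀))) n _ (hG.map _) ⟨N, by
    rw [mul_pow, mul_assoc]; exact Ideal.mul_mem_left _ _ hG'⟩ d
  rw [coeff_map] at hM
  have := hΛ (Submodule.mem_colon_singleton.mpr hM)
  rcases hQp.mem_or_mem (hQp.mem_of_pow_mem _ this) with h' | h'
  exacts [hgQ h', hgQ' h']

end Groth.L14.LocQR
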