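import Groth.Agent.L14.PPSmooth.Criterion

/-!
Symmetric powers of projective modules are projective; principal parts of differentially smooth algebras are
projective and the graded pieces are direct summands.
-/

set_option autoImplicit false

noncomputable section

universe u

open TensorProduct

namespace Groth.L14.PPSmooth

variable {B : Type u} [CommRing B] {ι : Type u} [Fintype ι] {M : Type u} [AddCommGroup M] [Module B M]
  {σ : Type u} (s : M →ₗ[B] σ →₀ B)

/-- The symmetric power mapped to homogeneous polynomials. -/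
def psiSym : SymmetricPower B ι M →ₗ[B] MvPolynomial σ B :=
  symLift ((MultilinearMap.mkPiAlgebra B ι (MvPolynomial σ B)).compLinearMap fun _ => lin B ∘ₗ s) fun e m => by
    simp only [MultilinearMap.compLinearMap_apply, MultilinearMap.mkPiAlgebra_apply]
    exact Equiv.prod_comp e fun i => (lin B ∘ₗ s) (m i)

theorem psiSym_tprod (m : ι → M) :
    psiSym s (SymmetricPower.tprod B m) = ∏ i, lin B (s (m i)) := by
  rw [psiSym, symLift_tprod]
  simp

variable (π : (σ →₀ B) →ₗ[B] M)

theorem readOff_psiSym (hπ : ∀ m, π (s m) = m) (x : SymmetricPower B ι M) :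
    readOff π (psiSym s x) = x := by
  have h : readOff π ∘ₗ psiSym (ι := ι) s = LinearMap.id := sym_hom_ext fun m => by
    rw [LinearMap.comp_apply, psiSym_tprod, LinearMap.id_apply, readOff_prod_lin]
    exact congrArg _ (funext fun i => hπ (m i))
  exact LinearMap.congr_fun h x

theorem psiSym_injective (hπ : ∀ m, π (s m) = m) : Function.Injective (psiSym (ι := ι) s) :=
  Function.LeftInverse.injective (readOff_psiSym s π hπ)

theorem exists_split (M : Type u) [AddCommGroup M] [Module B M] [Module.Projective B M] :
    ∃ (s : M →ₗ[B] M →₀ B), ∀ m, Finsupp.linearCombination B (id : M → M) (s m) = m := by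
  obtain ⟨s, hs⟩ := Module.projective_def.mp ‹Module.Projective B M›
  exact ⟨s, hs⟩

theorem projective_sym [Module.Projective B M] : Module.Projective B (SymmetricPower B ι M) := by
  obtain ⟨s, hs⟩ := exists_split (B := B) M
  haveI : Module.Free B (MvPolynomial M B) := Module.Free.of_basis (MvPolynomial.basisMonomials M B)
  exact Module.Projective.of_split (P := SymmetricPower B ι M) (psiSym s) (readOff (Finsupp.linearCombination B id)) (LinearMap.ext (readOff_psiSym s _ hs))

section P

variable (A : Type u) [CommRing A] (B) [Algebra A B]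

/-- The inclusion of the graded piece in the principal parts. -/
def grToP (n : ℕ) : PP16.grI A B n →ₗ[B] PP16.P n A B :=
  Submodule.liftQ _ ((Ideal.Quotient.mkₐ B (KaehlerDifferential.ideal A B ^ (n + 1))).toLinearMap ∘ₗ
      ((KaehlerDifferential.ideal A B ^ n).restrictScalars B).subtype)
    fun x hx => Ideal.Quotient.eq_zero_iff_mem.mpr hx

theorem grToP_mk (n : ℕ) (x : B ⊗[A] B) (hx : x ∈ KaehlerDifferential.ideal A B ^ n) :
    grToP B A n (mkGr B (KaehlerDifferential.ideal A B) n x hx) = Ideal.Quotient.mkₐ B _ x := rfl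

theorem grToP_injective (n : ℕ) : Function.Injective (grToP B A n) := by
  rw [injective_iff_map_eq_zero]
  intro g hg
  obtain ⟨x, hx, rfl⟩ := mkGr_surjective B (KaehlerDifferential.ideal A B) n g
  rw [grToP_mk] at hg
  rw [show (0 : PP16.grI A B n) = mkGr B (KaehlerDifferential.ideal A B) n 0 (zero_mem _) from rfl]
  exact (mkGr_eq_iff B _ n hx (zero_mem _)).mpr (by simpa using Ideal.Quotient.eq_zero_iff_mem.mp hg)

theorem projective_grI (h : PP16.IsDiffSmooth A B) (n : ℕ) : Module.Projective B (PP16.grI A B n) := by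
  have hn : Fintype.card (ULift.{u} (Fin n)) = n := by simp
  haveI := h.1
  haveI := projective_sym (B := B) (ι := ULift.{u} (Fin n)) (M := KaehlerDifferential A B)
  have := Module.Projective.of_equiv (LinearEquiv.ofBijective (phi A B (ULift.{u} (Fin n)))
    ⟨phi_injective A B h _, phi_surjective A B _⟩)
  rwa [hn] at this

theorem projective_P_and_split (h : PP16.IsDiffSmooth A B) : ∀ n : ℕ,
    Module.Projective B (PP16.P n A B) ∧
      ∃ L : PP16.P n A B →ₗ[B] PP16.grI A B n, ∀ g, L (grToP B A n g) = g := by
  intro n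
  induction n with
  | zero =>
    have hsurj : Function.Surjective (grToP B A 0) := fun x => by
      obtain ⟨x, rfl⟩ := Ideal.Quotient.mkₐ_surjective B _ x
      exact ⟨mkGr B (KaehlerDifferential.ideal A B) 0 x (by simp), grToP_mk B A 0 x (by simp)⟩
    let e := LinearEquiv.ofBijective (grToP B A 0) ⟨grToP_injective B A 0, hsurj⟩
    haveI := projective_grI B A h 0
    exact ⟨Module.Projective.of_equiv e, e.symm.toLinearMap, e.symm_apply_apply⟩
  | succ n ih =>
    haveI := ih.1
    haveI := projective_grI B A h (n + 1)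
    let π : PP16.P (n + 1) A B →ₗ[B] PP16.P n A B :=
      (Ideal.Quotient.factorₐ B (Ideal.pow_le_pow_right (Nat.le_succ (n + 1)))).toLinearMap
    have hπ : ∀ x, π (Ideal.Quotient.mkₐ B _ x) = Ideal.Quotient.mkₐ B _ x := fun x => rfl
    have hπs : Function.Surjective π := fun y => by
      obtain ⟨y, rfl⟩ := Ideal.Quotient.mkₐ_surjective B _ y
      exact ⟨_, hπ y⟩
    obtain ⟨σ, hσ⟩ := π.exists_rightInverse_of_surjective (LinearMap.range_eq_top.mpr hπs)
    have hσ' : ∀ y, π (σ y) = y := LinearMap.congr_fun hσ
    let e := LinearEquiv.ofInjective (grToP B A (n + 1)) (grToP_injective B A (n + 1))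
    have hr : ∀ x, x - σ (π x) ∈ LinearMap.range (grToP B A (n + 1)) := fun x => by
      obtain ⟨w, hw⟩ := Ideal.Quotient.mkₐ_surjective B _ (x - σ (π x))
      have h0 : π (x - σ (π x)) = 0 := by rw [map_sub, hσ', sub_self]
      rw [← hw, hπ] at h0
      exact ⟨mkGr B (KaehlerDifferential.ideal A B) _ w (Ideal.Quotient.eq_zero_iff_mem.mp h0),
        (grToP_mk B A (n + 1) w _).trans hw⟩
    let r : PP16.P (n + 1) A B →ₗ[B] LinearMap.range (grToP B A (n + 1)) :=
      (LinearMap.id - σ ∘ₗ π).codRestrict _ hr
    let L := e.symm.toLinearMap ∘ₗ r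
    have hL : ∀ x, grToP B A (n + 1) (L x) = x - σ (π x) := fun x => by
      have h1 := congrArg Subtype.val (e.apply_symm_apply (r x))
      exact h1
    refine ⟨Module.Projective.of_split (LinearMap.prod L π) (LinearMap.coprod (grToP B A (n + 1)) σ)
      (LinearMap.ext fun x => ?_), L, fun g => ?_⟩
    · simp only [LinearMap.comp_apply, LinearMap.prod_apply, Function.prod_apply, LinearMap.coprod_apply,
        LinearMap.id_apply, hL, sub_add_cancel]
    · apply grToP_injective B A (n + 1)
      obtain ⟨w, hw, rfl⟩ := mkGr_surjective B (KaehlerDifferential.ideal A B) (n + 1) g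
      rw [hL, grToP_mk, hπ, show Ideal.Quotient.mkₐ B (KaehlerDifferential.ideal A B ^ (n + 1)) w = 0 from
        Ideal.Quotient.eq_zero_iff_mem.mpr hw, map_zero, sub_zero]

end P

end Groth.L14.PPSmooth
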