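import Mathlib.LinearAlgebra.TensorPower.Symmetric
import Mathlib.LinearAlgebra.Multilinear.Basis
import Mathlib.LinearAlgebra.FreeModule.Basic
import Mathlib.Algebra.Module.Projective
import Mathlib.RingTheory.MvPolynomial.Ideal

/-!
Symmetric powers: universal property, and injectivity of the map into a polynomial ring given by a split
linear embedding into linear forms.
-/

set_option autoImplicit false

noncomputable section

universe u

open TensorProduct MvPolynomial Finsupp

namespace Groth.L14.PPSmooth

variable {B : Type u} [CommRing B] {ι : Type u} {M : Type u} [AddCommGroup M] [Module B M]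

/-- A symmetric multilinear map factors through the symmetric power. -/
def symLift {N : Type*} [AddCommGroup N] [Module B N] (f : MultilinearMap B (fun _ : ι => M) N)
    (hf : ∀ (e : Equiv.Perm ι) (m : ι → M), f (fun i => m (e i)) = f m) :
    SymmetricPower B ι M →ₗ[B] N where
  toFun := AddCon.lift _ (PiTensorProduct.lift f).toAddMonoidHom
    (by
      refine AddCon.addConGen_le.mpr ?_
      intro x y h
      cases h with
      | perm e m =>
        rw [AddCon.ker_apply]
        simp only [LinearMap.toAddMonoidHom_coe]
        rw [PiTensorProduct.lift.tprod, PiTensorProduct.lift.tprod]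
        exact (hf e m).symm)
  map_add' := map_add _
  map_smul' r x := AddCon.induction_on x fun x => map_smul (PiTensorProduct.lift f) r x

theorem symLift_tprod {N : Type*} [AddCommGroup N] [Module B N] (f : MultilinearMap B (fun _ : ι => M) N)
    (hf : ∀ (e : Equiv.Perm ι) (m : ι → M), f (fun i => m (e i)) = f m) (m : ι → M) :
    symLift f hf (SymmetricPower.tprod B m) = f m :=
  PiTensorProduct.lift.tprod m

theorem sym_hom_ext {N : Type*} [AddCommGroup N] [Module B N] {f g : SymmetricPower B ι M →ₗ[B] N}
    (h : ∀ m : ι → M, f (SymmetricPower.tprod B m) = g (SymmetricPower.tprod B m)) : f = g :=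
  LinearMap.ext_on (SymmetricPower.span_tprod_eq_top B ι M) (by rintro _ ⟨m, rfl⟩; exact h m)

/-- A generating family of `M` gives a generating family of the symmetric power. -/
theorem sym_span_eq_top [Finite ι] {κ : Type*} (v : κ → M) (hv : Submodule.span B (Set.range v) = ⊤) :
    Submodule.span B (Set.range fun k : ι → κ => SymmetricPower.tprod B (fun i => v (k i))) = ⊤ := by
  classical
  cases nonempty_fintype ι
  rw [eq_top_iff, ← SymmetricPower.span_tprod_eq_top B ι M, Submodule.span_le]
  rintro _ ⟨m, rfl⟩
  have hs : ∀ i, m i ∈ Submodule.span B (Set.range v) := fun i => hv ▸ Submodule.mem_top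
  choose c hc using fun i => Finsupp.mem_span_range_iff_exists_finsupp.mp (hs i)
  rw [show m = fun i => ∑ k ∈ (c i).support, c i k • v k from funext fun i => (hc i).symm,
    MultilinearMap.map_sum_finset]
  refine Submodule.sum_mem _ fun k _ => ?_
  rw [MultilinearMap.map_smul_univ]
  exact Submodule.smul_mem _ _ (Submodule.subset_span ⟨k, rfl⟩)

variable [Fintype ι] {σ : Type*}

/-- The multiplicities of the values of `f`. -/
def counts (f : ι → σ) : σ →₀ ℕ := ∑ i, Finsupp.single (f i) 1

theorem counts_apply (f : ι → σ) (s : σ) :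
    counts f s = Nat.card { i // f i = s } := by
  classical
  rw [counts, Finsupp.finsetSum_apply, Nat.card_eq_fintype_card, Fintype.card_subtype, Finset.card_filter]
  exact Finset.sum_congr rfl fun i _ => by rw [Finsupp.single_apply]

theorem degree_counts (f : ι → σ) : (counts f).degree = Fintype.card ι := by
  simp [counts, map_sum]

theorem exists_perm {f g : ι → σ} (h : counts f = counts g) : ∃ e : Equiv.Perm ι, ∀ i, g (e i) = f i := by
  have hc : ∀ s, Nonempty ({ i // f i = s } ≃ { i // g i = s }) := fun s =>
    Finite.card_eq.mp (by rw [← counts_apply, ← counts_apply, h])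
  exact ⟨Equiv.ofFiberEquiv fun s => (hc s).some, fun i => Equiv.ofFiberEquiv_map _ i⟩

theorem tprod_eq_of_counts (v : σ → M) {f g : ι → σ} (h : counts f = counts g) :
    SymmetricPower.tprod B (fun i => v (f i)) = SymmetricPower.tprod B (fun i => v (g i)) := by
  obtain ⟨e, he⟩ := exists_perm h
  rw [← SymmetricPower.tprod_equiv e (fun i => v (g i))]
  exact congrArg _ (funext fun i => by rw [he])

theorem prod_X_eq (f : ι → σ) : ∏ i, (X (f i) : MvPolynomial σ B) = monomial (counts f) 1 := by
  rw [counts, monomial_sum_one]
  rfl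

variable (B) in
/-- The linear form attached to a finitely supported family of coefficients. -/
def lin : (σ →₀ B) →ₗ[B] MvPolynomial σ B := Finsupp.linearCombination B (X : σ → MvPolynomial σ B)

theorem lin_single (s : σ) (b : B) : lin B (Finsupp.single s b) = b • X s :=
  Finsupp.linearCombination_single B b s

theorem lin_mem (v : σ →₀ B) : lin B v ∈ MvPolynomial.idealOfVars σ B := by
  rw [lin, Finsupp.linearCombination_apply]
  exact Submodule.sum_mem _ fun s _ =>
    Submodule.smul_of_tower_mem _ _ (Ideal.subset_span ⟨s, rfl⟩)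

/-- Reading off a symmetric tensor from a homogeneous polynomial. -/
def readOff (π : (σ →₀ B) →ₗ[B] M) : MvPolynomial σ B →ₗ[B] SymmetricPower B ι M := by
  classical
  exact (MvPolynomial.basisMonomials σ B).constr B fun d =>
    if h : ∃ f : ι → σ, counts f = d then
      SymmetricPower.tprod B (fun i => π (Finsupp.single (h.choose i) 1))
    else 0

theorem readOff_monomial_counts (π : (σ →₀ B) →ₗ[B] M) (f : ι → σ) :
    readOff π (monomial (counts f) 1) = SymmetricPower.tprod B (fun i => π (Finsupp.single (f i) 1)) := by
  classical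
  have h : ∃ g : ι → σ, counts g = counts f := ⟨f, rfl⟩
  rw [readOff]
  conv_lhs => rw [show monomial (counts f) (1 : B) = MvPolynomial.basisMonomials σ B (counts f) from
    (congrFun (MvPolynomial.coe_basisMonomials σ B) _).symm, Module.Basis.constr_basis, dif_pos h]
  exact tprod_eq_of_counts (fun s => π (Finsupp.single s 1)) h.choose_spec

theorem readOff_eq_zero (π : (σ →₀ B) →ₗ[B] M) {P : MvPolynomial σ B}
    (hP : P ∈ MvPolynomial.idealOfVars σ B ^ (Fintype.card ι + 1)) :
    readOff (ι := ι) π P = 0 := by
  classical
  rw [MvPolynomial.as_sum P, map_sum]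
  refine Finset.sum_eq_zero fun d hd => ?_
  have hdeg : Fintype.card ι + 1 ≤ d.degree := by
    by_contra hcon
    exact (MvPolynomial.mem_support_iff.mp hd)
      ((MvPolynomial.mem_pow_idealOfVars_iff' _ P).mp hP d (by omega))
  have hno : ¬ ∃ f : ι → σ, counts f = d := by
    rintro ⟨f, rfl⟩
    rw [degree_counts] at hdeg
    omega
  rw [show monomial d (P.coeff d) = P.coeff d • MvPolynomial.basisMonomials σ B d by
    rw [congrFun (MvPolynomial.coe_basisMonomials σ B) d, smul_monomial, smul_eq_mul, mul_one],
    map_smul, readOff, Module.Basis.constr_basis, dif_neg hno, smul_zero]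

theorem readOff_prod_lin (π : (σ →₀ B) →ₗ[B] M) (v : ι → (σ →₀ B)) :
    readOff π (∏ i, lin B (v i)) = SymmetricPower.tprod B (fun i => π (v i)) := by
  have h : (readOff (ι := ι) π).compMultilinearMap
      ((MultilinearMap.mkPiAlgebra B ι (MvPolynomial σ B)).compLinearMap fun _ => lin B) =
      (SymmetricPower.tprod B).compLinearMap fun _ => π := by
    refine Module.Basis.ext_multilinear (fun _ => Finsupp.basisSingleOne) fun f => ?_
    simp only [LinearMap.compMultilinearMap_apply, MultilinearMap.compLinearMap_apply,
      Finsupp.coe_basisSingleOne, lin_single, one_smul, MultilinearMap.mkPiAlgebra_apply, prod_X_eq]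
    exact readOff_monomial_counts π f
  exact congrFun (congrArg DFunLike.coe h) v

/-- The symmetric power of a direct summand of a free module embeds into the polynomial ring. -/
theorem sym_eq_zero_of_split (s : M →ₗ[B] σ →₀ B) (π : (σ →₀ B) →ₗ[B] M) (hπ : ∀ m, π (s m) = m)
    (ψ : SymmetricPower B ι M →ₗ[B] MvPolynomial σ B ⧸ MvPolynomial.idealOfVars σ B ^ (Fintype.card ι + 1))
    (hψ : ∀ m : ι → M, ψ (SymmetricPower.tprod B m) = Ideal.Quotient.mk _ (∏ i, lin B (s (m i))))
    {x : SymmetricPower B ι M} (hx : ψ x = 0) : x = 0 := by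
  let f : MultilinearMap B (fun _ : ι => M) (MvPolynomial σ B) :=
    (MultilinearMap.mkPiAlgebra B ι (MvPolynomial σ B)).compLinearMap fun _ => lin B ∘ₗ s
  have hf : ∀ (e : Equiv.Perm ι) (m : ι → M), f (fun i => m (e i)) = f m := fun e m => by
    simp only [f, MultilinearMap.compLinearMap_apply, MultilinearMap.mkPiAlgebra_apply]
    exact Equiv.prod_comp e fun i => (lin B ∘ₗ s) (m i)
  have h1 : ψ = (Ideal.Quotient.mkₐ B _).toLinearMap ∘ₗ symLift f hf := sym_hom_ext fun m => by
    rw [hψ, LinearMap.comp_apply, symLift_tprod]
    simp [f]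
  have h2 : readOff π ∘ₗ symLift f hf = LinearMap.id := sym_hom_ext fun m => by
    rw [LinearMap.comp_apply, symLift_tprod, LinearMap.id_apply]
    exact (readOff_prod_lin π fun i => s (m i)).trans (congrArg _ (funext fun i => hπ (m i)))
  rw [h1] at hx
  have h3 := readOff_eq_zero (ι := ι) π (Ideal.Quotient.eq_zero_iff_mem.mp hx)
  exact (LinearMap.congr_fun h2 x).symm.trans h3

end Groth.L14.PPSmooth
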