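import Groth.Agent.L14.PPSmooth.Proj
import Groth.Agent.L14.PPPushout
import Mathlib.RingTheory.Kaehler.TensorProduct
import Mathlib.RingTheory.Finiteness.Descent
import Mathlib.RingTheory.Flat.FaithfullyFlat.Algebra
import Mathlib.RingTheory.Flat.EquationalCriterion
import Mathlib.LinearAlgebra.DirectSum.Finsupp

/-!
Differential smoothness under base change and faithfully flat descent.
-/

set_option autoImplicit false
set_option linter.style.haveILetI false

noncomputable section

universe u

open TensorProduct
open scoped Classical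

namespace Groth.L14.PPSmooth

/-- Faithfully flat descent of finite projectivity. -/
theorem projective_descent {R : Type u} (T : Type u) [CommRing R] [CommRing T] [Algebra R T]
    [Module.FaithfullyFlat R T] (M : Type u) [AddCommGroup M] [Module R M]
    [Module.Finite T (T ⊗[R] M)] [Module.Projective T (T ⊗[R] M)] : Module.Projective R M := by
  haveI : Module.Finite R M := Module.Finite.of_finite_tensorProduct_of_faithfullyFlat T
  obtain ⟨n, f, hf⟩ := Module.Finite.exists_fin' R M
  haveI : Module.Finite T (T ⊗[R] LinearMap.ker f) := by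
    have hex : Function.Exact (LinearMap.baseChange T (LinearMap.ker f).subtype) (LinearMap.baseChange T f) :=
      lTensor_exact T (LinearMap.exact_subtype_ker_map f) hf
    have hinj : Function.Injective (LinearMap.baseChange T (LinearMap.ker f).subtype) :=
      Module.Flat.lTensor_preserves_injective_linearMap _ Subtype.val_injective
    have hs : Function.Surjective (LinearMap.baseChange T f) := LinearMap.lTensor_surjective T hf
    obtain ⟨g, hg⟩ := (LinearMap.baseChange T f).exists_rightInverse_of_surjective (LinearMap.range_eq_top.mpr hs)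
    have hg' : ∀ y, LinearMap.baseChange T f (g y) = y := LinearMap.congr_fun hg
    have hk : ∀ x, x - g (LinearMap.baseChange T f x) ∈
        LinearMap.range (LinearMap.baseChange T (LinearMap.ker f).subtype) := fun x => by
      have h0 : LinearMap.baseChange T f (x - g (LinearMap.baseChange T f x)) = 0 := by
        rw [map_sub, hg', sub_self]
      exact (hex _).mp h0
    haveI : Module.Finite T (LinearMap.range (LinearMap.baseChange T (LinearMap.ker f).subtype)) := by
      refine Module.Finite.of_surjective
        ((LinearMap.id - g ∘ₗ LinearMap.baseChange T f).codRestrict _ hk) ?_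
      rintro ⟨_, w, rfl⟩
      refine ⟨LinearMap.baseChange T (LinearMap.ker f).subtype w, Subtype.ext ?_⟩
      change LinearMap.baseChange T (LinearMap.ker f).subtype w - g _ = _
      rw [show LinearMap.baseChange T f (LinearMap.baseChange T (LinearMap.ker f).subtype w) = 0 from
        (hex _).mpr ⟨w, rfl⟩, map_zero, sub_zero]
    exact Module.Finite.equiv (LinearEquiv.ofInjective _ hinj).symm
  haveI : Module.Finite R (LinearMap.ker f) := Module.Finite.of_finite_tensorProduct_of_faithfullyFlat T
  haveI : Module.FinitePresentation R M :=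
    Module.finitePresentation_of_surjective f hf (Module.Finite.iff_fg.mp inferInstance)
  haveI : Module.Flat R M := Module.Flat.of_flat_tensorProduct R M T
  exact Module.Flat.projective_of_finitePresentation

variable (A B A' B' : Type u) [CommRing A] [CommRing B] [Algebra A B]
    [CommRing A'] [CommRing B'] [Algebra A' B'] [Algebra A A'] [Algebra B B'] [Algebra A B']
    [IsScalarTower A A' B'] [IsScalarTower A B B'] [Algebra.IsPushout A B A' B']

/-- `b' ⊗ ω ↦ b' • ω'`. -/
def kaehlerBase : B' ⊗[B] KaehlerDifferential A B →ₗ[B'] KaehlerDifferential A' B' :=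
  (KaehlerDifferential.map A A' B B').liftBaseChange B'

theorem kaehlerBase_tmul (b' : B') (x : KaehlerDifferential A B) :
    kaehlerBase A B A' B' (b' ⊗ₜ x) = b' • KaehlerDifferential.map A A' B B' x :=
  LinearMap.liftBaseChange_tmul _ _ _ _

theorem kaehlerBase_bijective : Function.Bijective (kaehlerBase A B A' B') := by
  haveI : Algebra.IsPushout A A' B B' := Algebra.IsPushout.symm ‹_›
  let e := KaehlerDifferential.tensorKaehlerEquivBase A A' B B'
  have htmul : ∀ (a : A') (x : KaehlerDifferential A B),
      e (a ⊗ₜ x) = kaehlerBase A B A' B' (algebraMap A' B' a ⊗ₜ x) := fun a x => by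
    rw [KaehlerDifferential.tensorKaehlerEquivBase_tmul, kaehlerBase_tmul, algebraMap_smul]
  let ν : A' ⊗[A] KaehlerDifferential A B →+ B' ⊗[B] KaehlerDifferential A B :=
    TensorProduct.liftAddHom
      { toFun := fun a => (TensorProduct.mk B B' (KaehlerDifferential A B) (algebraMap A' B' a)).toAddMonoidHom
        map_zero' := by ext x; simp
        map_add' := fun a a' => by ext x; simp [add_tmul] }
      fun r a x => by
        change algebraMap A' B' (r • a) ⊗ₜ[B] x = algebraMap A' B' a ⊗ₜ[B] (r • x)
        rw [← algebraMap_smul B r x, ← TensorProduct.smul_tmul, algebraMap_smul B r (algebraMap A' B' a),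
          ← IsScalarTower.toAlgHom_apply A A' B', ← IsScalarTower.toAlgHom_apply A A' B', map_smul]
  have hν : ∀ a x, ν (a ⊗ₜ x) = algebraMap A' B' a ⊗ₜ[B] x := fun a x => rfl
  have hcomp : ∀ y, e y = kaehlerBase A B A' B' (ν y) := fun y => by
    induction y using TensorProduct.induction_on with
    | zero => simp
    | tmul a x => rw [hν, htmul]
    | add y z hy hz => simp only [map_add, hy, hz]
  have hsurj : Function.Surjective ν := by
    intro y
    induction y using TensorProduct.induction_on with
    | zero => exact ⟨0, map_zero ν⟩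
    | add y z hy hz =>
      obtain ⟨y, rfl⟩ := hy
      obtain ⟨z, rfl⟩ := hz
      exact ⟨y + z, map_add ν y z⟩
    | tmul b' x =>
      suffices ∀ b' : B', ∀ x, ∃ y, ν y = b' ⊗ₜ[B] x from this b' x
      intro b'
      induction b' using (‹Algebra.IsPushout A A' B B'›).out.inductionOn with
      | zero => exact fun x => ⟨0, by simp⟩
      | tmul b =>
        intro x
        refine ⟨(1 : A') ⊗ₜ (b • x), ?_⟩
        rw [hν, map_one, ← TensorProduct.smul_tmul, Algebra.smul_def, mul_one]
        rfl
      | smul a b hb =>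
        intro x
        obtain ⟨y, hy⟩ := hb x
        refine ⟨a • y, ?_⟩
        rw [Algebra.smul_def a b, ← smul_eq_mul, ← TensorProduct.smul_tmul', ← hy]
        clear hy
        induction y using TensorProduct.induction_on with
        | zero => simp
        | tmul a' x' =>
          rw [TensorProduct.smul_tmul', hν, hν, TensorProduct.smul_tmul', smul_eq_mul, smul_eq_mul, map_mul]
        | add y z hy hz => simp only [smul_add, map_add, hy, hz]
      | add b c hb hc =>
        intro x
        obtain ⟨y, hy⟩ := hb x
        obtain ⟨z, hz⟩ := hc x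
        exact ⟨y + z, by rw [map_add, hy, hz, add_tmul]⟩
  constructor
  · intro y z hyz
    obtain ⟨y, rfl⟩ := hsurj y
    obtain ⟨z, rfl⟩ := hsurj z
    rw [← hcomp, ← hcomp] at hyz
    rw [e.injective hyz]
  · intro w
    obtain ⟨y, rfl⟩ := e.surjective w
    exact ⟨ν y, (hcomp y).symm⟩

/-- The canonical isomorphism `B' ⊗ Ω ≅ Ω'`. -/
def kaehlerEquiv : B' ⊗[B] KaehlerDifferential A B ≃ₗ[B'] KaehlerDifferential A' B' :=
  LinearEquiv.ofBijective _ (kaehlerBase_bijective A B A' B')

include A in
theorem span_D_algebraMap :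
    Submodule.span B' (Set.range fun b : B => KaehlerDifferential.D A' B' (algebraMap B B' b)) = ⊤ := by
  rw [eq_top_iff]
  rintro w -
  obtain ⟨y, rfl⟩ := (kaehlerBase_bijective A B A' B').2 w
  induction y using TensorProduct.induction_on with
  | zero => simp
  | add y z hy hz => rw [map_add]; exact add_mem hy hz
  | tmul b' x =>
    rw [kaehlerBase_tmul]
    refine Submodule.smul_mem _ _ ?_
    have hx : x ∈ Submodule.span B (Set.range (KaehlerDifferential.D A B)) :=
      (KaehlerDifferential.span_range_derivation A B) ▸ Submodule.mem_top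
    induction hx using Submodule.span_induction with
    | mem x hx =>
      obtain ⟨b, rfl⟩ := hx
      rw [KaehlerDifferential.map_D]
      exact Submodule.subset_span ⟨b, rfl⟩
    | zero => simp
    | add x y _ _ hx hy => rw [map_add]; exact add_mem hx hy
    | smul b x _ hx => rw [map_smul, ← algebraMap_smul B' b]; exact Submodule.smul_mem _ _ hx

variable {A B} {σ : Type u} (s : KaehlerDifferential A B →ₗ[B] σ →₀ B)

/-- The base change of a map into a free module. -/
def sBase : KaehlerDifferential A' B' →ₗ[B'] σ →₀ B' :=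
  (TensorProduct.finsuppScalarRight B B' B' σ).toLinearMap ∘ₗ (s.baseChange B') ∘ₗ
    (kaehlerEquiv A B A' B').symm.toLinearMap

theorem sBase_map (x : KaehlerDifferential A B) :
    sBase A' B' s (KaehlerDifferential.map A A' B B' x) =
      Finsupp.mapRange (algebraMap B B') (map_zero _) (s x) := by
  have h : (kaehlerEquiv A B A' B').symm (KaehlerDifferential.map A A' B B' x) = (1 : B') ⊗ₜ x := by
    rw [LinearEquiv.symm_apply_eq]
    exact ((kaehlerBase_tmul A B A' B' 1 x).trans (one_smul _ _)).symm
  ext i
  simp [sBase, h, Algebra.smul_def]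

theorem exists_retract (π : (σ →₀ B) →ₗ[B] KaehlerDifferential A B) (hπ : ∀ m, π (s m) = m) :
    ∃ π' : (σ →₀ B') →ₗ[B'] KaehlerDifferential A' B', ∀ m, π' (sBase A' B' s m) = m := by
  refine ⟨(kaehlerEquiv A B A' B').toLinearMap ∘ₗ (π.baseChange B') ∘ₗ
    (TensorProduct.finsuppScalarRight B B' B' σ).symm.toLinearMap, fun m => ?_⟩
  simp only [sBase, LinearMap.comp_apply, LinearEquiv.coe_coe, LinearEquiv.symm_apply_apply]
  have h : ∀ y : B' ⊗[B] KaehlerDifferential A B, π.baseChange B' (s.baseChange B' y) = y := fun y => by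
    induction y using TensorProduct.induction_on with
    | zero => simp
    | tmul b x => simp [hπ]
    | add y z hy hz => simp only [map_add, hy, hz]
  rw [h, LinearEquiv.apply_symm_apply]

theorem map_psiSym {ι : Type u} [Fintype ι] (f : ι → B) :
    MvPolynomial.map (algebraMap B B')
        (psiSym s (SymmetricPower.tprod B fun i => KaehlerDifferential.D A B (f i))) =
      psiSym (sBase A' B' s)
        (SymmetricPower.tprod B' fun i => KaehlerDifferential.D A' B' (algebraMap B B' (f i))) := by
  rw [psiSym_tprod, psiSym_tprod, map_prod]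
  refine Finset.prod_congr rfl fun i _ => ?_
  rw [← KaehlerDifferential.map_D A A' B B', sBase_map, lin, lin, Finsupp.linearCombination_apply,
    Finsupp.linearCombination_apply, Finsupp.sum_mapRange_index (h := fun k a => a • (MvPolynomial.X k : MvPolynomial σ B'))
      (fun k => zero_smul _ _), map_finsuppSum]
  refine Finsupp.sum_congr fun k _ => ?_
  rw [MvPolynomial.smul_eq_C_mul, MvPolynomial.smul_eq_C_mul, map_mul, MvPolynomial.map_C, MvPolynomial.map_X]

/-- The product of `ζ`'s is compatible with `tensorMap`. -/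
theorem tensorMap_prod_zeta {ι : Type u} [Fintype ι] (f : ι → B) :
    PP16.tensorMap A B A' B' (∏ i, (zeta A B (f i) : B ⊗[A] B)) =
      ∏ i, (zeta A' B' (algebraMap B B' (f i)) : B' ⊗[A'] B') := by
  rw [map_prod]
  refine Finset.prod_congr rfl fun i _ => ?_
  simp only [zeta, map_sub, PP16.tensorMap_tmul, map_one]

theorem phi_sum {R S : Type u} [CommRing R] [CommRing S] [Algebra R S] {ι : Type u} [Fintype ι]
    {κ : Type*} (t : Finset κ) (c : κ → S) (f : κ → ι → S) :
    ∃ h, phi R S ι (∑ k ∈ t, c k • SymmetricPower.tprod S fun i => KaehlerDifferential.D R S (f k i)) =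
      mkGr S (KaehlerDifferential.ideal R S) _ (∑ k ∈ t, c k • ∏ i, (zeta R S (f k i) : S ⊗[R] S)) h := by
  classical
  induction t using Finset.induction_on with
  | empty => exact ⟨by simp, by simp only [Finset.sum_empty, map_zero]; rfl⟩
  | insert k t hk ih =>
    obtain ⟨h, hh⟩ := ih
    have hm : c k • ∏ i, (zeta R S (f k i) : S ⊗[R] S) ∈ KaehlerDifferential.ideal R S ^ Fintype.card ι :=
      Submodule.smul_of_tower_mem _ _ (prod_mem_card _ fun i => (zeta R S (f k i)).2)
    refine ⟨by rw [Finset.sum_insert hk]; exact add_mem hm h, ?_⟩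
    rw [Finset.sum_insert hk, map_add, map_smul, phi_zetaProd, hh]
    rw [show PP16.zetaProd R S (f k) = mkGr S (KaehlerDifferential.ideal R S) _
      (∏ i, (zeta R S (f k i) : S ⊗[R] S)) (prod_mem_card _ fun i => (zeta R S (f k i)).2) from rfl,
      ← mkGr_smul, ← mkGr_add, mkGr_eq_iff, Finset.sum_insert hk, sub_self]
    exact zero_mem _

/-- Base change of differential smoothness. -/
theorem isDiffSmooth_baseChange (h : PP16.IsDiffSmooth A B) : PP16.IsDiffSmooth A' B' := by
  classical
  haveI := h.1
  obtain ⟨s, hs⟩ := exists_split (B := B) (KaehlerDifferential A B)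
  obtain ⟨π', hπ'⟩ := exists_retract A' B' s _ hs
  refine isDiffSmooth_of_injective A' B' (Module.Projective.of_equiv (kaehlerEquiv A B A' B')) fun ι _ => ?_
  rw [injective_iff_map_eq_zero]
  intro x hx
  have hxm : x ∈ (⊤ : Submodule B' _) := Submodule.mem_top
  rw [← sym_span_eq_top (ι := ι) _ (span_D_algebraMap A B A' B'), Finsupp.mem_span_range_iff_exists_finsupp] at hxm
  obtain ⟨c, rfl⟩ := hxm
  rw [Finsupp.sum] at hx ⊢
  obtain ⟨h1, hphi⟩ := phi_sum (R := A') (S := B') (ι := ι) c.support (fun k => c k)
    (fun k i => algebraMap B B' (k i))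
  have hmem : (∑ k ∈ c.support, c k • ∏ i, (zeta A' B' (algebraMap B B' (k i)) : B' ⊗[A'] B')) ∈
      KaehlerDifferential.ideal A' B' ^ (Fintype.card ι + 1) := by
    have h2 := hphi.symm.trans hx
    rw [show (0 : PP16.grI A' B' (Fintype.card ι)) = mkGr B' (KaehlerDifferential.ideal A' B') _ 0 (zero_mem _)
      from rfl, mkGr_eq_iff, sub_zero] at h2
    exact h2
  let Q := B' ⊗[B] PP16.P (Fintype.card ι) A B
  obtain ⟨Θ, hΘ⟩ := Groth.L14.PP.exists_P_lift (Fintype.card ι) A B A' B' Q Algebra.TensorProduct.includeRight
  have hQ : ∑ k ∈ c.support, c k • ((1 : B') ⊗ₜ[B]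
      Ideal.Quotient.mkₐ B (KaehlerDifferential.ideal A B ^ (Fintype.card ι + 1))
        (∏ i, (zeta A B (k i) : B ⊗[A] B))) = (0 : Q) := by
    have h0 : Θ (Ideal.Quotient.mkₐ B' _ (∑ k ∈ c.support,
        c k • ∏ i, (zeta A' B' (algebraMap B B' (k i)) : B' ⊗[A'] B'))) = 0 := by
      rw [show Ideal.Quotient.mkₐ B' (KaehlerDifferential.ideal A' B' ^ (Fintype.card ι + 1)) _ = 0 from
        Ideal.Quotient.eq_zero_iff_mem.mpr hmem, map_zero]
    rw [map_sum, map_sum] at h0
    refine Eq.trans (Finset.sum_congr rfl fun k _ => ?_) h0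
    rw [map_smul, map_smul, ← tensorMap_prod_zeta (A := A) (B := B) A' B', Ideal.Quotient.mkₐ_eq_mk B',
      ← PP16.map_mk (Fintype.card ι) A B A' B', hΘ]
    rfl
  haveI := h.1
  obtain ⟨L, hL⟩ := (projective_P_and_split B A h (Fintype.card ι)).2
  let e := LinearEquiv.ofBijective (phi A B ι) ⟨phi_injective A B h ι, phi_surjective A B ι⟩
  let F : Q →ₗ[B'] MvPolynomial (KaehlerDifferential A B) B' :=
    LinearMap.liftBaseChange B' (((MvPolynomial.mapAlgHom (Algebra.ofId B B')).toLinearMap ∘ₗ psiSym s) ∘ₗ
      e.symm.toLinearMap ∘ₗ L)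
  have hF : ∀ k : ι → B, F ((1 : B') ⊗ₜ[B] Ideal.Quotient.mkₐ B
      (KaehlerDifferential.ideal A B ^ (Fintype.card ι + 1)) (∏ i, (zeta A B (k i) : B ⊗[A] B))) =
      psiSym (sBase A' B' s)
        (SymmetricPower.tprod B' fun i => KaehlerDifferential.D A' B' (algebraMap B B' (k i))) := fun k => by
    have e1 : L (Ideal.Quotient.mkₐ B (KaehlerDifferential.ideal A B ^ (Fintype.card ι + 1))
        (∏ i, (zeta A B (k i) : B ⊗[A] B))) = PP16.zetaProd A B k :=
      hL (PP16.zetaProd A B k)
    have e2 : e.symm (PP16.zetaProd A B k) = SymmetricPower.tprod B fun i => KaehlerDifferential.D A B (k i) := by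
      rw [LinearEquiv.symm_apply_eq]
      exact (phi_zetaProd A B ι k).symm
    rw [LinearMap.liftBaseChange_tmul, one_smul, LinearMap.comp_apply, LinearMap.comp_apply, LinearMap.comp_apply,
      LinearEquiv.coe_coe, e1, e2, AlgHom.toLinearMap_apply, MvPolynomial.mapAlgHom_apply, ← map_psiSym A' B']
    rfl
  apply psiSym_injective (sBase A' B' s) π' hπ'
  rw [map_zero, map_sum, ← map_zero F, ← hQ, map_sum]
  exact Finset.sum_congr rfl fun k _ => by rw [map_smul, map_smul, hF]

/-- Faithfully flat descent of differential smoothness. -/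
theorem isDiffSmooth_descent [Module.FaithfullyFlat A A'] (h : PP16.IsDiffSmooth A' B')
    (hfin : Module.Finite B' (KaehlerDifferential A' B')) :
    PP16.IsDiffSmooth A B ∧ Module.Finite B (KaehlerDifferential A B) := by
  classical
  haveI : Module.FaithfullyFlat B B' := by
    haveI : Algebra.IsPushout A A' B B' := Algebra.IsPushout.symm ‹_›
    let e := Algebra.IsPushout.equiv A B A' B'
    exact Module.FaithfullyFlat.of_linearEquiv B (B ⊗[A] A') e.symm.toLinearEquiv
  haveI := hfin
  haveI := h.1
  haveI : Module.FinitePresentation B' (KaehlerDifferential A' B') := Module.finitePresentation_of_projective _ _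
  haveI : Module.Finite B' (B' ⊗[B] KaehlerDifferential A B) :=
    Module.Finite.equiv (kaehlerEquiv A B A' B').symm
  haveI hfinB : Module.Finite B (KaehlerDifferential A B) :=
    Module.Finite.of_finite_tensorProduct_of_faithfullyFlat B'
  haveI : Module.Projective B' (B' ⊗[B] KaehlerDifferential A B) :=
    Module.Projective.of_equiv (kaehlerEquiv A B A' B').symm
  haveI : Module.Projective B (KaehlerDifferential A B) := projective_descent B' _
  obtain ⟨s, hs⟩ := exists_split (B := B) (KaehlerDifferential A B)
  refine ⟨isDiffSmooth_of_injective A B inferInstance fun ι _ => ?_, hfinB⟩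
  rw [injective_iff_map_eq_zero]
  intro x hx
  have hxm : x ∈ (⊤ : Submodule B _) := Submodule.mem_top
  rw [← sym_span_eq_top (ι := ι) _ (KaehlerDifferential.span_range_derivation A B),
    Finsupp.mem_span_range_iff_exists_finsupp] at hxm
  obtain ⟨c, rfl⟩ := hxm
  rw [Finsupp.sum] at hx ⊢
  obtain ⟨h1, hphi⟩ := phi_sum (R := A) (S := B) (ι := ι) c.support (fun k => c k) (fun k i => k i)
  have h2 := hphi.symm.trans hx
  rw [show (0 : PP16.grI A B (Fintype.card ι)) = mkGr B (KaehlerDifferential.ideal A B) _ 0 (zero_mem _)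
    from rfl, mkGr_eq_iff, sub_zero] at h2
  obtain ⟨h3, hphi'⟩ := phi_sum (R := A') (S := B') (ι := ι) c.support (fun k => algebraMap B B' (c k))
    (fun k i => algebraMap B B' (k i))
  have h4 : PP16.tensorMap A B A' B' (∑ k ∈ c.support, c k • ∏ i, (zeta A B (k i) : B ⊗[A] B)) =
      ∑ k ∈ c.support, algebraMap B B' (c k) • ∏ i, (zeta A' B' (algebraMap B B' (k i)) : B' ⊗[A'] B') := by
    rw [map_sum]
    refine Finset.sum_congr rfl fun k _ => ?_
    rw [← tensorMap_prod_zeta (A := A) (B := B) A' B', Algebra.smul_def, Algebra.smul_def, map_mul,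
      Algebra.TensorProduct.algebraMap_apply, Algebra.TensorProduct.algebraMap_apply, PP16.tensorMap_tmul,
      Algebra.algebraMap_self, RingHom.id_apply, map_one]
    rfl
  have h5 : PP16.tensorMap A B A' B' (∑ k ∈ c.support, c k • ∏ i, (zeta A B (k i) : B ⊗[A] B)) ∈
      KaehlerDifferential.ideal A' B' ^ (Fintype.card ι + 1) := by
    have := Ideal.pow_right_mono (PP16.ideal_map_tensorMap_le A B A' B') (Fintype.card ι + 1)
    rw [← Ideal.map_pow] at this
    exact this (Ideal.mem_map_of_mem _ h2)
  rw [h4] at h5
  have h6 : (∑ k ∈ c.support, algebraMap B B' (c k) •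
      SymmetricPower.tprod B' fun i : ι => KaehlerDifferential.D A' B' (algebraMap B B' (k i))) = 0 := by
    apply phi_injective A' B' h ι
    rw [hphi', map_zero, show (0 : PP16.grI A' B' (Fintype.card ι)) =
      mkGr B' (KaehlerDifferential.ideal A' B') _ 0 (zero_mem _) from rfl, mkGr_eq_iff, sub_zero]
    exact h5
  apply psiSym_injective s _ hs
  rw [map_zero]
  apply MvPolynomial.map_injective (algebraMap B B') (FaithfulSMul.algebraMap_injective B B')
  have h7 := congrArg (psiSym (sBase A' B' s)) h6
  rw [map_zero, map_sum] at h7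
  rw [map_zero, map_sum, map_sum, ← h7]
  refine Finset.sum_congr rfl fun k _ => ?_
  rw [map_smul (psiSym s), map_smul (psiSym (sBase A' B' s)), MvPolynomial.smul_eq_C_mul,
    MvPolynomial.smul_eq_C_mul, map_mul, MvPolynomial.map_C,
    map_psiSym A' B']

end Groth.L14.PPSmooth
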