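import Groth.Agent.L14.PPSmooth.Gr
import Mathlib.RingTheory.Smooth.Basic
import Mathlib.RingTheory.Nilpotent.Exp
import Mathlib.Algebra.DualNumber

/-!
Differential smoothness from a family of splittings `B → Sym(Ω)/(+)^(n+1)`: formally smooth algebras and
algebras over `ℚ` with free differentials.
-/

set_option autoImplicit false

noncomputable section

universe u

open TensorProduct

namespace Groth.L14.PPSmooth

variable (A B : Type u) [CommRing A] [CommRing B] [Algebra A B]

theorem conormal_kaehler :
    Conormal (KaehlerDifferential.ideal A B) (KaehlerDifferential.fromIdeal A B) :=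
  ⟨KaehlerDifferential.fromIdeal_surjective A B, fun _ _ => Ideal.toCotangent_eq _⟩

/-- The generator `1 ⊗ b - b ⊗ 1` of the diagonal ideal. -/
def zeta (b : B) : KaehlerDifferential.ideal A B :=
  ⟨(1 : B) ⊗ₜ[A] b - b ⊗ₜ[A] (1 : B), KaehlerDifferential.one_smul_sub_smul_one_mem_ideal A b⟩

theorem D_eq (b : B) :
    KaehlerDifferential.D A B b = KaehlerDifferential.fromIdeal A B (zeta A B b) := rfl

theorem exists_sub_mem_ideal (z : B ⊗[A] B) :
    ∃ b : B, z - algebraMap B (B ⊗[A] B) b ∈ KaehlerDifferential.ideal A B := by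
  refine ⟨Algebra.TensorProduct.lmul' A z, ?_⟩
  rw [RingHom.mem_ker, map_sub, Algebra.TensorProduct.algebraMap_apply, Algebra.TensorProduct.lmul'_apply_tmul,
    mul_one, Algebra.algebraMap_self, RingHom.id_apply, sub_self]

/-- The canonical map `Sym^n Ω → I^n/I^(n+1)`. -/
abbrev phi (ι : Type u) [Fintype ι] :
    SymmetricPower B ι (KaehlerDifferential A B) →ₗ[B] PP16.grI A B (Fintype.card ι) :=
  symGr B (conormal_kaehler A B)

theorem phi_zetaProd (ι : Type u) [Fintype ι] (b : ι → B) :
    phi A B ι (SymmetricPower.tprod B fun i => KaehlerDifferential.D A B (b i)) = PP16.zetaProd A B b :=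
  symGr_tprod (conormal_kaehler A B) fun i => zeta A B (b i)

theorem phi_surjective (ι : Type u) [Fintype ι] : Function.Surjective (phi A B ι) :=
  symGr_surjective (conormal_kaehler A B) (exists_sub_mem_ideal A B)

theorem isDiffSmooth_of_injective (hp : Module.Projective B (KaehlerDifferential A B))
    (h : ∀ (ι : Type u) [Fintype ι], Function.Injective (phi A B ι)) : PP16.IsDiffSmooth A B :=
  ⟨hp, fun ι _ => ⟨phi A B ι, phi_zetaProd A B ι, h ι, phi_surjective A B ι⟩⟩

theorem phi_injective (h : PP16.IsDiffSmooth A B) (ι : Type u) [Fintype ι] :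
    Function.Injective (phi A B ι) := by
  obtain ⟨φ, hφ, hbij⟩ := h.2 ι
  have e : phi A B ι = φ := by
    refine LinearMap.ext_on (sym_span_eq_top (B := B) (ι := ι) (fun b : B => KaehlerDifferential.D A B b)
      (KaehlerDifferential.span_range_derivation A B)) ?_
    rintro _ ⟨k, rfl⟩
    exact (phi_zetaProd A B ι k).trans (hφ k).symm
  exact e ▸ hbij.1

/-- Truncated polynomials in the indeterminates `σ`. -/
abbrev Trunc (σ : Type u) (n : ℕ) : Type u :=
  MvPolynomial σ B ⧸ MvPolynomial.idealOfVars σ B ^ (n + 1)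

/-- The ideal of the indeterminates in the truncated polynomials. -/
abbrev truncIdeal (σ : Type u) (n : ℕ) : Ideal (Trunc B σ n) :=
  (MvPolynomial.idealOfVars σ B).map (Ideal.Quotient.mk _)

/-- Splittings `B → Sym(Ω)/(+)^(n+1)` lifting `b ↦ b + db` give differential smoothness. -/
theorem isDiffSmooth_of_theta {σ : Type u} (s : KaehlerDifferential A B →ₗ[B] σ →₀ B)
    (π : (σ →₀ B) →ₗ[B] KaehlerDifferential A B) (hπ : ∀ m, π (s m) = m)
    (hθ : ∀ n : ℕ, ∃ θ : B →ₐ[A] Trunc B σ n, ∀ b, θ b - algebraMap B (Trunc B σ n) b -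
      Ideal.Quotient.mk _ (lin B (s (KaehlerDifferential.D A B b))) ∈ truncIdeal B σ n ^ 2) :
    PP16.IsDiffSmooth A B := by
  refine isDiffSmooth_of_injective A B (Module.Projective.of_split s π (LinearMap.ext hπ)) fun ι _ => ?_
  obtain ⟨θ, hθ⟩ := hθ (Fintype.card ι)
  refine symGr_injective (conormal_kaehler A B) s π hπ
    (Algebra.TensorProduct.lift (Algebra.ofId B (Trunc B σ (Fintype.card ι))) θ fun _ _ => Commute.all _ _)
    fun x => ?_
  have hx : (x : B ⊗[A] B) ∈ (KaehlerDifferential.ideal A B).restrictScalars B := x.2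
  rw [← KaehlerDifferential.submodule_span_range_eq_ideal] at hx
  obtain ⟨x, hxm⟩ := x
  change x ∈ Submodule.span B _ at hx
  induction hx using Submodule.span_induction with
  | mem x hx =>
    obtain ⟨b, rfl⟩ := hx
    change _ - Ideal.Quotient.mk _ (lin B (s (KaehlerDifferential.D A B b))) ∈ _
    simpa [Algebra.TensorProduct.lift_tmul] using hθ b
  | zero =>
    rw [show (⟨0, hxm⟩ : KaehlerDifferential.ideal A B) = 0 from rfl]
    simp
  | add y z hy hz ihy ihz =>
    have hy' : y ∈ KaehlerDifferential.ideal A B := by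
      rw [KaehlerDifferential.submodule_span_range_eq_ideal] at hy; exact hy
    have hz' : z ∈ KaehlerDifferential.ideal A B := by
      rw [KaehlerDifferential.submodule_span_range_eq_ideal] at hz; exact hz
    rw [show (⟨y + z, hxm⟩ : KaehlerDifferential.ideal A B) = ⟨y, hy'⟩ + ⟨z, hz'⟩ from rfl]
    simp only [map_add, Submodule.coe_add]
    rw [add_sub_add_comm]
    exact add_mem (ihy hy') (ihz hz')
  | smul r y hy ihy =>
    have hy' : y ∈ KaehlerDifferential.ideal A B := by
      rw [KaehlerDifferential.submodule_span_range_eq_ideal] at hy; exact hy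
    rw [show (⟨r • y, hxm⟩ : KaehlerDifferential.ideal A B) = r • ⟨y, hy'⟩ from rfl,
      LinearMap.map_smul_of_tower, map_smul, map_smul, Submodule.coe_smul_of_tower, map_smul,
      ← Ideal.Quotient.mkₐ_eq_mk B, map_smul, ← smul_sub]
    exact Submodule.smul_of_tower_mem _ r (ihy hy')

theorem truncIdeal_pow (σ : Type u) (n : ℕ) : truncIdeal B σ n ^ (n + 1) = ⊥ := by
  rw [← Ideal.map_pow, Ideal.map_quotient_self]

/-- A formally smooth algebra is differentially smooth. -/
theorem isDiffSmooth_of_formallySmooth [Algebra.FormallySmooth A B] : PP16.IsDiffSmooth A B := by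
  obtain ⟨s, hs⟩ := Module.projective_def.mp
    (Algebra.FormallySmooth.projective_kaehlerDifferential (R := A) (A := B))
  refine isDiffSmooth_of_theta A B s (Finsupp.linearCombination B id) hs fun n => ?_
  let L : B →ₗ[A] Trunc B (KaehlerDifferential A B) n :=
    ((Ideal.Quotient.mkₐ B _).toLinearMap.comp ((lin B).comp s)).restrictScalars A ∘ₗ
      (KaehlerDifferential.D A B).toLinearMap
  have hL : ∀ b, L b ∈ truncIdeal B (KaehlerDifferential A B) n := fun b =>
    Ideal.mem_map_of_mem _ (lin_mem _)
  have hmul : ∀ x y, L (x * y) = algebraMap B _ x * L y + algebraMap B _ y * L x := fun x y => by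
    simp only [L, LinearMap.comp_apply, Derivation.coeFn_coe, Derivation.leibniz, LinearMap.restrictScalars_apply,
      map_add, map_smul s, map_smul (lin B), AlgHom.toLinearMap_apply]
    rw [Algebra.smul_def, Algebra.smul_def, map_mul, map_mul, AlgHom.commutes, AlgHom.commutes]
  let J := truncIdeal B (KaehlerDifferential A B) n ^ 2
  let θ₀ : B →ₐ[A] Trunc B (KaehlerDifferential A B) n ⧸ J :=
    { toFun := fun b => Ideal.Quotient.mk J (algebraMap B _ b + L b)
      map_one' := by
        have : L 1 = 0 := by simp [L]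
        rw [this, add_zero, map_one, map_one]
      map_mul' := fun x y => by
        rw [← map_mul, Ideal.Quotient.eq, hmul, map_mul]
        have h2 : L x * L y ∈ J := by
          rw [show J = _ ^ 2 from rfl, pow_two]
          exact Ideal.mul_mem_mul (hL x) (hL y)
        convert neg_mem h2 using 1
        ring
      map_zero' := by simp
      map_add' := fun x y => by simp only [map_add]; abel
      commutes' := fun a => by
        have : L (algebraMap A B a) = 0 := by simp [L]
        rw [this, add_zero, ← IsScalarTower.algebraMap_apply A B, Ideal.Quotient.mk_algebraMap] }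
  have hJ : IsNilpotent J := ⟨n + 1, by
    rw [show J = _ ^ 2 from rfl, ← pow_mul, mul_comm, pow_mul, truncIdeal_pow, pow_two, Ideal.bot_mul]
    rfl⟩
  obtain ⟨θ, hθ⟩ := Algebra.FormallySmooth.exists_lift J hJ θ₀
  refine ⟨θ, fun b => ?_⟩
  rw [sub_sub]
  exact Ideal.Quotient.eq.mp (AlgHom.congr_fun hθ b)

variable {B} in
/-- The ring map into dual numbers whose second component is the derivation `δ` of the polynomial ring. -/
def dualHom {σ : Type u} (s : KaehlerDifferential A B →ₗ[B] σ →₀ B) :
    MvPolynomial σ B →+* DualNumber (MvPolynomial σ B) :=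
  MvPolynomial.eval₂Hom
    { toFun := fun b => TrivSqZeroExt.inl (MvPolynomial.C b) +
        TrivSqZeroExt.inr (lin B (s (KaehlerDifferential.D A B b)))
      map_one' := by simp
      map_mul' := fun x y => by
        apply TrivSqZeroExt.ext
        · simp
        · simp [MvPolynomial.smul_eq_C_mul]
          ring
      map_zero' := by simp
      map_add' := fun x y => by
        simp only [map_add, TrivSqZeroExt.inl_add, TrivSqZeroExt.inr_add]
        abel }
    fun k => TrivSqZeroExt.inl (MvPolynomial.X k)

variable {σ : Type u} (s : KaehlerDifferential A B →ₗ[B] σ →₀ B)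

variable {B} in
/-- The derivation `δ` extending `b ↦ db`. -/
def delta : MvPolynomial σ B →+ MvPolynomial σ B where
  toFun P := (dualHom A s P).snd
  map_zero' := by simp
  map_add' P Q := by simp

theorem fst_dualHom (P : MvPolynomial σ B) : (dualHom A s P).fst = P := by
  induction P using MvPolynomial.induction_on with
  | C b => simp [dualHom]
  | add P Q hP hQ => simp [hP, hQ]
  | mul_X P k hP => simp [dualHom, hP] at *; simp [hP]

theorem delta_mul (P Q : MvPolynomial σ B) :
    delta A s (P * Q) = P * delta A s Q + delta A s P * Q := by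
  change (dualHom A s (P * Q)).snd = _
  rw [map_mul, DualNumber.snd_mul, fst_dualHom, fst_dualHom]
  rfl

theorem delta_C (b : B) :
    delta A s (MvPolynomial.C b) = lin B (s (KaehlerDifferential.D A B b)) := by
  simp [delta, dualHom]

theorem delta_X (k : σ) : delta A s (MvPolynomial.X k) = 0 := by
  simp [delta, dualHom]

theorem delta_mem (P : MvPolynomial σ B) : delta A s P ∈ MvPolynomial.idealOfVars σ B := by
  induction P using MvPolynomial.induction_on with
  | C b => rw [delta_C]; exact lin_mem _
  | add P Q hP hQ => rw [map_add]; exact add_mem hP hQ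
  | mul_X P k hP =>
    rw [delta_mul, delta_X, mul_zero, zero_add]
    exact Ideal.mul_mem_right _ _ hP

theorem delta_mem_pow (m : ℕ) : ∀ P ∈ MvPolynomial.idealOfVars σ B ^ m,
    delta A s P ∈ MvPolynomial.idealOfVars σ B ^ (m + 1) := by
  induction m with
  | zero => exact fun P _ => by simpa using delta_mem A B s P
  | succ m ih =>
    intro P hP
    rw [pow_succ] at hP
    refine Submodule.mul_induction_on hP (fun a ha b hb => ?_) (fun a b ha hb => ?_)
    · rw [delta_mul, pow_succ _ (m + 1)]
      refine add_mem ?_ (Ideal.mul_mem_mul (ih a ha) hb)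
      have h1 : delta A s b ∈ MvPolynomial.idealOfVars σ B ^ 2 := by
        refine Submodule.span_induction (p := fun c _ => delta A s c ∈ MvPolynomial.idealOfVars σ B ^ 2)
          ?_ (by simp) (fun x y _ _ hx hy => by rw [map_add]; exact add_mem hx hy) ?_ hb
        · rintro _ ⟨k, rfl⟩
          rw [delta_X]
          exact zero_mem _
        · intro r x hx ihx
          rw [smul_eq_mul, delta_mul]
          refine add_mem (Ideal.mul_mem_left _ _ ihx) ?_
          rw [pow_two]
          exact Ideal.mul_mem_mul (delta_mem A B s r) hx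
      have h2 := Ideal.mul_mem_mul ha h1
      rwa [← pow_add, show m + 2 = m + 1 + 1 from rfl, pow_succ] at h2
    · rw [map_add]; exact add_mem ha hb

/-- An algebra over `ℚ` with free differentials is differentially smooth. -/
theorem isDiffSmooth_of_rat [Algebra ℚ B] {σ : Type u} (e : KaehlerDifferential A B ≃ₗ[B] σ →₀ B) :
    PP16.IsDiffSmooth A B := by
  refine isDiffSmooth_of_theta A B e.toLinearMap e.symm.toLinearMap e.symm_apply_apply fun n => ?_
  let δ : Trunc B σ n →+ Trunc B σ n :=
    QuotientAddGroup.lift (MvPolynomial.idealOfVars σ B ^ (n + 1)).toAddSubgroup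
      ((Ideal.Quotient.mk (MvPolynomial.idealOfVars σ B ^ (n + 1))).toAddMonoidHom.comp (delta A e.toLinearMap))
      fun P hP => Ideal.Quotient.eq_zero_iff_mem.mpr
        (Ideal.pow_le_pow_right (Nat.le_succ _) (delta_mem_pow A B e.toLinearMap (n + 1) P hP))
  let D : Module.End ℤ (Trunc B σ n) := δ.toIntLinearMap
  have hδ : ∀ P, D (Ideal.Quotient.mk (MvPolynomial.idealOfVars σ B ^ (n + 1)) P) = Ideal.Quotient.mk (MvPolynomial.idealOfVars σ B ^ (n + 1)) (delta A e.toLinearMap P) := fun P => rfl
  have hDpow : ∀ (k : ℕ) (P : MvPolynomial σ B),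
      (D ^ k) (Ideal.Quotient.mk (MvPolynomial.idealOfVars σ B ^ (n + 1)) P) ∈ truncIdeal B σ n ^ k := by
    intro k P
    suffices ∃ Q ∈ MvPolynomial.idealOfVars σ B ^ k, (D ^ k) (Ideal.Quotient.mk (MvPolynomial.idealOfVars σ B ^ (n + 1)) P) = Ideal.Quotient.mk (MvPolynomial.idealOfVars σ B ^ (n + 1)) Q by
      obtain ⟨Q, hQ, hQ'⟩ := this
      rw [hQ', ← Ideal.map_pow]
      exact Ideal.mem_map_of_mem _ hQ
    induction k with
    | zero => exact ⟨P, by simp, rfl⟩
    | succ k ih =>
      obtain ⟨Q, hQ, hQ'⟩ := ih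
      refine ⟨delta A e.toLinearMap Q, delta_mem_pow A B _ k Q hQ, ?_⟩
      rw [pow_succ' D k, Module.End.mul_apply]
      exact (congrArg D hQ').trans (hδ Q)
  have hnil : D ^ (n + 2) = 0 := LinearMap.ext fun x => by
    obtain ⟨P, rfl⟩ := Ideal.Quotient.mk_surjective x
    have h := Ideal.pow_le_pow_right (show n + 1 ≤ n + 2 by omega) (hDpow (n + 2) P)
    rw [truncIdeal_pow, Ideal.mem_bot] at h
    exact h
  have hder : ∀ x y, D (x * y) = x * D y + D x * y := fun x y => by
    obtain ⟨P, rfl⟩ := Ideal.Quotient.mk_surjective x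
    obtain ⟨Q, rfl⟩ := Ideal.Quotient.mk_surjective y
    rw [← map_mul, hδ, hδ, hδ, delta_mul, map_add, map_mul, map_mul]
  have hexp : ∀ x, IsNilpotent.exp D x =
      ∑ i ∈ Finset.range (n + 2), (i.factorial : ℚ)⁻¹ • (D ^ i) x := fun x => by
    rw [IsNilpotent.exp_eq_sum hnil]
    simp [LinearMap.sum_apply]
  have hconst : ∀ a, IsNilpotent.exp D (algebraMap A (Trunc B σ n) a) = algebraMap A (Trunc B σ n) a := by
    intro a
    rw [hexp, Finset.sum_range_succ', Finset.sum_eq_zero]
    · simp
    · intro i _
      have h0 : D (algebraMap A (Trunc B σ n) a) = 0 := by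
        refine (hδ (MvPolynomial.C (algebraMap A B a))).trans ?_
        rw [delta_C, Derivation.map_algebraMap, map_zero, map_zero, map_zero]
      rw [pow_succ D i, Module.End.mul_apply, h0, map_zero, smul_zero]
  let θ : B →ₐ[A] Trunc B σ n :=
    { toFun := fun b => IsNilpotent.exp D (algebraMap B (Trunc B σ n) b)
      map_one' := by simpa using hconst 1
      map_mul' := fun x y => by
        rw [map_mul, Module.End.exp_mul_of_derivation ℤ _ D hder ⟨_, hnil⟩]
      map_zero' := by simp
      map_add' := fun x y => by simp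
      commutes' := fun a => by rw [← IsScalarTower.algebraMap_apply]; exact hconst a }
  refine ⟨θ, fun b => ?_⟩
  change IsNilpotent.exp D (Ideal.Quotient.mk (MvPolynomial.idealOfVars σ B ^ (n + 1)) (MvPolynomial.C b)) - Ideal.Quotient.mk (MvPolynomial.idealOfVars σ B ^ (n + 1)) (MvPolynomial.C b) -
    Ideal.Quotient.mk (MvPolynomial.idealOfVars σ B ^ (n + 1)) (lin B (e.toLinearMap (KaehlerDifferential.D A B b))) ∈ _
  rw [hexp, Finset.sum_range_succ', Finset.sum_range_succ', ← delta_C]
  simp only [zero_add, Nat.factorial_zero, Nat.factorial_one, Nat.cast_one, inv_one, one_smul, pow_zero,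
    pow_one, Module.End.one_apply]
  rw [show D (Ideal.Quotient.mk (MvPolynomial.idealOfVars σ B ^ (n + 1)) (MvPolynomial.C b)) = Ideal.Quotient.mk (MvPolynomial.idealOfVars σ B ^ (n + 1)) (delta A e.toLinearMap (MvPolynomial.C b))
    from hδ _]
  rw [add_sub_cancel_right, add_sub_cancel_right]
  refine Ideal.sum_mem _ fun i _ => ?_
  exact Submodule.smul_of_tower_mem _ _ (Ideal.pow_le_pow_right (show 2 ≤ i + 1 + 1 by omega) (hDpow _ _))

end Groth.L14.PPSmooth
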