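import Groth.Agent.L14.PPSmooth.LocQR
import Groth.Agent.L14.PPSmooth.Criterion
import Mathlib.RingTheory.Localization.Free
import Mathlib.RingTheory.LocalRing.Module
import Mathlib.RingTheory.LocalProperties.Projective
import Mathlib.RingTheory.LocalProperties.FinitePresentation
import Mathlib.RingTheory.Localization.Finiteness
import Mathlib.RingTheory.Nakayama

/-!
Differential smoothness of a finite type algebra is quasi-regularity of the diagonal.
-/

set_option autoImplicit false
set_option linter.style.haveILetI false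

noncomputable section

universe u

open TensorProduct MvPolynomial

namespace Groth.L14.PPSmooth

variable {A B : Type u} [CommRing A] [CommRing B] [Algebra A B]

local notation "SS" => B ⊗[A] B
local notation "II" => KaehlerDifferential.ideal A B
local notation "qq" => KaehlerDifferential.fromIdeal A B
local notation "μ" => Algebra.TensorProduct.lmul' A (S := B)

theorem mul_algebraMap_eq (b : B) : μ (algebraMap B SS b) = b := by
  rw [Algebra.TensorProduct.algebraMap_apply, Algebra.TensorProduct.lmul'_apply_tmul, mul_one,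
    Algebra.algebraMap_self, RingHom.id_apply]

theorem sub_mul_mem (x : SS) : x - algebraMap B SS (μ x) ∈ II := by
  rw [RingHom.mem_ker, map_sub, mul_algebraMap_eq, sub_self]

theorem q_smul (x : SS) (a : II) : qq (x • a) = μ x • qq a := by
  rw [← algebraMap_smul SS (μ x) (qq a), ← map_smul, (conormal_kaehler A B).eq_iff, pow_two]
  change x * (a : SS) - algebraMap B SS (μ x) * (a : SS) ∈ _
  rw [← sub_mul]
  exact Ideal.mul_mem_mul (sub_mul_mem x) a.2

theorem pow_mem_of_mem_comap {g : B} {P : Ideal B} [P.IsPrime] {n : ℕ} (h : g ^ n ∈ P) : g ∈ P :=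
  Ideal.IsPrime.mem_of_pow_mem ‹_› _ h

/-- Coordinates from a free localisation. -/
theorem exists_coords (hp : Module.Projective B (KaehlerDifferential A B))
    [Module.Finite B (KaehlerDifferential A B)] (p : Ideal B) [p.IsPrime] :
    ∃ (g : B) (r : ℕ) (ω : Fin r → KaehlerDifferential A B)
      (κ : KaehlerDifferential A B →ₗ[B] (Fin r → Localization.Away g)) (c : Fin r → Localization.Away g),
      g ∉ p ∧ (∀ w, ∃ N : ℕ, g ^ N • w ∈ Submodule.span B (Set.range ω)) ∧
      (∀ i, IsUnit (c i)) ∧ ∀ i, κ (ω i) = Pi.single i (c i) := by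
  classical
  haveI := hp
  haveI : Module.FinitePresentation B (KaehlerDifferential A B) := Module.finitePresentation_of_projective _ _
  haveI : Module.Finite (Localization.AtPrime p) (LocalizedModule p.primeCompl (KaehlerDifferential A B)) :=
    Module.Finite.of_isLocalizedModule p.primeCompl (LocalizedModule.mkLinearMap p.primeCompl _)
  haveI : Module.Free (Localization.AtPrime p) (LocalizedModule p.primeCompl (KaehlerDifferential A B)) :=
    Module.free_of_flat_of_isLocalRing
  obtain ⟨g, hg, b', -⟩ := Module.FinitePresentation.exists_basis_localizedModule_powers p.primeCompl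
    (LocalizedModule.mkLinearMap p.primeCompl (KaehlerDifferential A B)) (Localization.AtPrime p)
    (Module.finBasis (Localization.AtPrime p) (LocalizedModule p.primeCompl (KaehlerDifferential A B)))
  choose x hx using fun i => IsLocalizedModule.surj (Submonoid.powers g)
    (LocalizedModule.mkLinearMap (Submonoid.powers g) (KaehlerDifferential A B)) (b' i)
  refine ⟨g, _, fun i => (x i).1,
    LinearMap.pi fun i => ((b'.coord i).restrictScalars B) ∘ₗ
      LocalizedModule.mkLinearMap (Submonoid.powers g) (KaehlerDifferential A B),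
    fun i => algebraMap B (Localization.Away g) ((x i).2 : B), hg, fun w => ?_, fun i => ?_, fun i => ?_⟩
  · obtain ⟨⟨_, a, rfl⟩, hint⟩ := IsLocalization.exist_integer_multiples (Submonoid.powers g) Finset.univ
      fun i => b'.repr (LocalizedModule.mkLinearMap (Submonoid.powers g) _ w) i
    choose e he using fun i => hint i (Finset.mem_univ i)
    let K : B := g ^ a * ∏ i, ((x i).2 : B)
    have hpow : ∃ N : ℕ, K = g ^ N := by
      have : ∀ s : Finset _, ∏ i ∈ s, ((x i).2 : B) ∈ Submonoid.powers g :=
        fun s => Submonoid.prod_mem _ fun i _ => (x i).2.2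
      obtain ⟨b, hb⟩ := this Finset.univ
      exact ⟨a + b, by rw [pow_add]; exact congrArg (g ^ a * ·) hb.symm⟩
    obtain ⟨N, hN⟩ := hpow
    have heq : LocalizedModule.mkLinearMap (Submonoid.powers g) (KaehlerDifferential A B) (K • w) =
        LocalizedModule.mkLinearMap (Submonoid.powers g) (KaehlerDifferential A B)
          (∑ i, (e i * ∏ j ∈ Finset.univ.erase i, ((x j).2 : B)) • (x i).1) := by
      rw [map_smul, map_sum]
      conv_lhs => rw [← b'.sum_repr (LocalizedModule.mkLinearMap (Submonoid.powers g) _ w), Finset.smul_sum]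
      refine Finset.sum_congr rfl fun i _ => ?_
      rw [map_smul, ← hx i, Submonoid.smul_def, smul_smul, ← IsScalarTower.algebraMap_smul (Localization.Away g) K,
        ← IsScalarTower.algebraMap_smul (Localization.Away g) (_ * _ : B), smul_smul]
      congr 1
      rw [map_mul, map_mul, map_mul, he i, Algebra.smul_def, mul_comm _ (algebraMap B _ ((x i).2 : B)),
        ← Finset.mul_prod_erase Finset.univ (fun j => ((x j).2 : B)) (Finset.mem_univ i), map_mul]
      ring
    obtain ⟨⟨_, b, rfl⟩, hb⟩ := (IsLocalizedModule.eq_iff_exists (Submonoid.powers g) _).mp heq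
    refine ⟨b + N, ?_⟩
    rw [pow_add, ← smul_smul, ← hN]
    rw [Submonoid.smul_def, Submonoid.smul_def] at hb
    change g ^ b • K • w ∈ _
    rw [show g ^ b • K • w = g ^ b • ∑ i, (e i * ∏ j ∈ Finset.univ.erase i, ((x j).2 : B)) • (x i).1 from hb]
    exact Submodule.smul_mem _ _ (Submodule.sum_mem _ fun i _ =>
      Submodule.smul_mem _ _ (Submodule.subset_span ⟨i, rfl⟩))
  · obtain ⟨k, hk⟩ := (x i).2.2
    change IsUnit (algebraMap B (Localization.Away g) ((x i).2 : B))
    rw [show ((x i).2 : B) = g ^ k from hk.symm, map_pow]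
    exact (IsLocalization.Away.algebraMap_isUnit g).pow k
  · funext j
    rw [LinearMap.pi_apply, LinearMap.comp_apply, LinearMap.restrictScalars_apply, ← hx i, Submonoid.smul_def,
      ← IsScalarTower.algebraMap_smul (Localization.Away g), map_smul, Module.Basis.coord_apply,
      Module.Basis.repr_self, Finsupp.single_apply, smul_eq_mul]
    by_cases hij : i = j
    · subst hij; simp
    · simp [hij, Pi.single_eq_of_ne (Ne.symm hij)]

theorem prod_pow_counts {κ : Type*} [Fintype κ] {S : Type*} [CommRing S] {r : ℕ} (h : Fin r → S) (f : κ → Fin r) :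
    ∏ j, h (f j) = ∏ i, h i ^ counts f i := by
  have e := congrArg (MvPolynomial.eval h)
    (show ∏ j, (X (f j) : MvPolynomial (Fin r) S) = monomial (counts f) 1 by
      rw [counts, monomial_sum_one]; rfl)
  rw [map_prod, eval_monomial, one_mul, Finsupp.prod_fintype _ _ fun i => pow_zero _] at e
  simpa using e

theorem exists_counts {r n : ℕ} (d : Fin r →₀ ℕ) (hd : d.degree = n) :
    ∃ f : ULift.{u} (Fin n) → Fin r, counts f = d := by
  let e : (Σ i, Fin (d i)) ≃ ULift.{u} (Fin n) :=
    Fintype.equivOfCardEq (by simp [← hd, Finsupp.degree_eq_sum])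
  refine ⟨fun j => (e.symm j).1, Finsupp.ext fun i => ?_⟩
  rw [counts_apply, Nat.card_congr ((e.symm.subtypeEquiv fun j => Iff.rfl).trans
    (Equiv.sigmaSubtype (β := fun i => Fin (d i)) i)), Nat.card_fin]

theorem phi_prod {κ : Type u} [Fintype κ] (y : κ → II) :
    phi A B κ (SymmetricPower.tprod B fun j => qq (y j)) =
      mkGr B II _ (∏ j, (y j : SS)) (prod_mem_card _ fun j => (y j).2) :=
  symGr_tprod (conormal_kaehler A B) y

theorem kaehlerIdeal_fg [Algebra.FiniteType A B] : (II).FG := KaehlerDifferential.ideal_fg A B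

/-- Smooth gives quasi-regular. -/
theorem isLocallyQuasiRegular_of_isDiffSmooth [Algebra.FiniteType A B] (hB : PP16.IsDiffSmooth A B) :
    PP16.IsLocallyQuasiRegular SS II := by
  classical
  refine Groth.L14.LocQR.isLocallyQuasiRegular_of_data fun P hPp hIP => ?_
  haveI := hPp
  haveI : (P.comap (algebraMap B SS)).IsPrime := inferInstance
  obtain ⟨g, r, ω, κ, c, hg, hgen, hc, hκ⟩ := exists_coords hB.1 (P.comap (algebraMap B SS))
  choose x hx using fun i => (conormal_kaehler A B).surjective (ω i)
  let h : Fin r → SS := fun i => (x i : SS)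
  let N : Ideal SS := Ideal.span (Set.range h)
  obtain ⟨s, hs⟩ := kaehlerIdeal_fg (A := A) (B := B)
  -- every element of `I` is, up to a power of `g`, in `N + I²`
  have hN : ∀ y ∈ II, ∃ k : ℕ, algebraMap B SS g ^ k * y ∈ N ⊔ II ^ 2 := by
    intro y hy
    obtain ⟨k, hk⟩ := hgen (qq ⟨y, hy⟩)
    obtain ⟨a, ha⟩ := (Submodule.mem_span_range_iff_exists_fun B).mp hk
    refine ⟨k, ?_⟩
    have e : qq (algebraMap B SS g ^ k • ⟨y, hy⟩) = qq (∑ i, algebraMap B SS (a i) • x i) := by
      rw [q_smul, map_pow, mul_algebraMap_eq, ← ha, map_sum]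
      refine Finset.sum_congr rfl fun i _ => ?_
      rw [q_smul, mul_algebraMap_eq, hx]
    have h2 := ((conormal_kaehler A B).eq_iff _ _).mp e
    simp only [Submodule.coe_smul_of_tower, AddSubmonoidClass.coe_finsetSum, smul_eq_mul] at h2
    rw [← sub_add_cancel (algebraMap B SS g ^ k * y) (∑ i, algebraMap B SS (a i) * (x i : SS))]
    exact add_mem (Submodule.mem_sup_right h2)
      (Submodule.mem_sup_left (Ideal.sum_mem _ fun i _ => Ideal.mul_mem_left _ _ (Ideal.subset_span ⟨i, rfl⟩)))
  -- Nakayama at `P`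
  let L := Localization.AtPrime P
  have hle : (II).map (algebraMap SS L) ≤ N.map (algebraMap SS L) ⊔ (II).map (algebraMap SS L) • (II).map (algebraMap SS L) := by
    rw [Ideal.map_le_iff_le_comap]
    intro y hy
    obtain ⟨k, hk⟩ := hN y hy
    have hu : IsUnit (algebraMap SS L (algebraMap B SS g ^ k)) :=
      IsLocalization.map_units L (⟨_, fun h' => hg (hPp.mem_of_pow_mem k h')⟩ : P.primeCompl)
    have h2 := Ideal.mem_map_of_mem (algebraMap SS L) hk
    rw [Ideal.map_sup, Ideal.map_pow, pow_two, map_mul, Ideal.unit_mul_mem_iff_mem _ hu] at h2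
    exact h2
  have hPL : (II).map (algebraMap SS L) ≤ N.map (algebraMap SS L) := by
    refine Submodule.le_of_le_smul_of_le_jacobson_bot (Ideal.FG.map ⟨s, hs⟩ _) ?_ hle
    rw [IsLocalRing.jacobson_eq_maximalIdeal ⊥ bot_ne_top, ← Localization.AtPrime.map_eq_maximalIdeal]
    exact Ideal.map_mono hIP
  have hkill : ∀ y ∈ II, ∃ a ∉ P, a * y ∈ N := by
    intro y hy
    have h2 := hPL (Ideal.mem_map_of_mem _ hy)
    obtain ⟨⟨⟨n, hn⟩, ⟨t, ht⟩⟩, he⟩ := (IsLocalization.mem_map_algebraMap_iff P.primeCompl L).mp h2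
    rw [← map_mul, IsLocalization.eq_iff_exists P.primeCompl] at he
    obtain ⟨⟨t', ht'⟩, ht2⟩ := he
    refine ⟨t' * t, P.primeCompl.mul_mem ht' ht, ?_⟩
    rw [mul_assoc, mul_comm t, show t' * (y * t) = t' * n from ht2]
    exact N.mul_mem_left _ hn
  choose a ha haN using fun y : s => hkill y.1 (hs ▸ Ideal.subset_span y.2)
  let G : SS := algebraMap B SS g * ∏ y, a y
  have hG : G ∉ P := P.primeCompl.mul_mem hg (Submonoid.prod_mem _ fun y _ => ha y)
  have hgenS : Groth.L14.LocQR.Gen II G h := by
    refine ⟨fun i => (x i).2, fun y hy => ⟨1, ?_⟩⟩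
    rw [pow_one]
    have hsle : Ideal.span (s : Set SS) ≤ Submodule.colon N {G} := Ideal.span_le.mpr fun z hz => by
      refine Submodule.mem_colon_singleton.mpr ?_
      change z * G ∈ N
      rw [show G = algebraMap B SS g * ((∏ y ∈ Finset.univ.erase (⟨z, hz⟩ : s), a y) * a ⟨z, hz⟩) by
        rw [Finset.prod_erase_mul _ _ (Finset.mem_univ _)]]
      rw [show z * (algebraMap B SS g * ((∏ y ∈ Finset.univ.erase (⟨z, hz⟩ : s), a y) * a ⟨z, hz⟩)) =
        (algebraMap B SS g * ∏ y ∈ Finset.univ.erase (⟨z, hz⟩ : s), a y) * (a ⟨z, hz⟩ * z) by ring]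
      exact N.mul_mem_left _ (haN ⟨z, hz⟩)
    have h3 := Submodule.mem_colon_singleton.mp (hsle (hs.ge hy))
    rw [mul_comm]
    exact h3
  refine ⟨G, hG, r, h, hgenS, ?_⟩
  rintro n P' hP' ⟨k, hk⟩ d
  by_cases hd : P'.coeff d = 0
  · exact ⟨0, by rw [hd, mul_zero]; exact zero_mem _⟩
  choose f hf using fun e : P'.support => exists_counts.{u} (n := n) e.1
    (by rw [Finsupp.degree_eq_weight_one]; exact hP' (mem_support_iff.mp e.2))
  let b : (Fin r →₀ ℕ) → B := fun e => μ (G ^ k * P'.coeff e)
  let w := ∑ e : P'.support, b e.1 • SymmetricPower.tprod B fun j => ω (f e j)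
  have hcard : Fintype.card (ULift.{u} (Fin n)) = n := by simp
  have hphi : ∀ t : Finset P'.support, ∃ hm, phi A B _ (∑ e ∈ t, b e.1 • SymmetricPower.tprod B fun j => ω (f e j)) =
      mkGr B II _ (∑ e ∈ t, G ^ k * eval h (monomial e.1 (P'.coeff e.1))) hm := by
    intro t
    induction t using Finset.induction_on with
    | empty => exact ⟨by simp, by simp only [Finset.sum_empty, map_zero]; rfl⟩
    | insert e t he ih =>
      obtain ⟨hm, hh⟩ := ih
      have hev : eval h (monomial e.1 (P'.coeff e.1)) = P'.coeff e.1 * ∏ j, (x (f e j) : SS) := by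
        rw [eval_monomial, Finsupp.prod_fintype _ _ fun i => pow_zero _, prod_pow_counts h (f e), hf e]
      have hprod : ∏ j, (x (f e j) : SS) ∈ II ^ Fintype.card (ULift.{u} (Fin n)) :=
        prod_mem_card _ fun j => (x (f e j)).2
      have hme : G ^ k * eval h (monomial e.1 (P'.coeff e.1)) ∈ II ^ Fintype.card (ULift.{u} (Fin n)) := by
        rw [hev, ← mul_assoc]
        exact Ideal.mul_mem_left _ _ hprod
      refine ⟨by rw [Finset.sum_insert he]; exact add_mem hme hm, ?_⟩
      rw [Finset.sum_insert he, map_add, map_smul,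
        show (fun j => ω (f e j)) = fun j => qq (x (f e j)) from funext fun j => (hx _).symm, phi_prod, hh,
        ← mkGr_smul, ← mkGr_add, mkGr_eq_iff, Finset.sum_insert he, hev, add_sub_add_right_eq_sub,
        Algebra.smul_def, ← mul_assoc (G ^ k), ← sub_mul]
      have hmm := Ideal.mul_mem_mul (sub_mul_mem (G ^ k * P'.coeff e.1)) hprod
      rw [← pow_succ'] at hmm
      convert neg_mem hmm using 1
      simp only [b]
      ring
  have hw : w = 0 := by
    obtain ⟨hm, hh⟩ := hphi Finset.univ
    apply phi_injective A B hB (ULift.{u} (Fin n))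
    rw [map_zero, hh]
    rw [show (0 : PP16.grI A B (Fintype.card (ULift.{u} (Fin n)))) =
      mkGr B II (Fintype.card (ULift.{u} (Fin n))) 0 (zero_mem _) from rfl, mkGr_eq_iff, sub_zero, hcard]
    rw [← Finset.mul_sum, ← map_sum, Finset.sum_coe_sort P'.support fun e => monomial e (P'.coeff e),
      ← P'.as_sum]
    exact hk
  let Ψ : MultilinearMap B (fun _ : ULift.{u} (Fin n) => KaehlerDifferential A B)
      (MvPolynomial (Fin r) (Localization.Away g)) :=
    (MultilinearMap.mkPiAlgebra B (ULift.{u} (Fin n)) (MvPolynomial (Fin r) (Localization.Away g))).compLinearMap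
      fun _ => ((Fintype.linearCombination (Localization.Away g)
        (X : Fin r → MvPolynomial (Fin r) (Localization.Away g))).restrictScalars B) ∘ₗ κ
  have hΨ : ∀ (e : Equiv.Perm (ULift.{u} (Fin n))) (m : ULift.{u} (Fin n) → KaehlerDifferential A B),
      Ψ (fun i => m (e i)) = Ψ m := fun e m => by
    simp only [Ψ, MultilinearMap.compLinearMap_apply, MultilinearMap.mkPiAlgebra_apply]
    exact Equiv.prod_comp e fun i => ((Fintype.linearCombination (Localization.Away g)
      (X : Fin r → MvPolynomial (Fin r) (Localization.Away g))).restrictScalars B ∘ₗ κ) (m i)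
  have hval : ∀ e : P'.support, Ψ (fun j => ω (f e j)) =
      monomial e.1 (∏ j, c (f e j)) := fun e => by
    simp only [Ψ, MultilinearMap.compLinearMap_apply, MultilinearMap.mkPiAlgebra_apply, LinearMap.comp_apply,
      LinearMap.restrictScalars_apply, hκ, Fintype.linearCombination_apply_single, MvPolynomial.smul_eq_C_mul]
    rw [Finset.prod_mul_distrib, ← map_prod C, prod_X_eq (f e), C_mul_monomial, mul_one, hf e]
  have h0 := congrArg (fun v => (symLift Ψ hΨ v).coeff d) hw
  simp only [w, map_sum, map_smul, symLift_tprod, map_zero, coeff_zero, hval, coeff_sum] at h0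
  rw [Finset.sum_eq_single ⟨d, mem_support_iff.mpr hd⟩] at h0
  · rw [MvPolynomial.coeff_smul, coeff_monomial, if_pos rfl, Algebra.smul_def,
      (IsUnit.prod_iff.mpr fun j _ => hc _).mul_left_eq_zero,
      IsLocalization.map_eq_zero_iff (Submonoid.powers g)] at h0
    obtain ⟨⟨_, M, rfl⟩, hM⟩ := h0
    have hI : algebraMap B SS g ^ M * (G ^ k * P'.coeff d) ∈ II := by
      rw [RingHom.mem_ker, map_mul, map_pow, mul_algebraMap_eq]
      exact hM
    refine ⟨M + k, ?_⟩
    have e : G ^ (M + k) * P'.coeff d = (∏ y, a y) ^ M * (algebraMap B SS g ^ M * (G ^ k * P'.coeff d)) := by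
      rw [pow_add, show G ^ M = algebraMap B SS g ^ M * (∏ y, a y) ^ M from mul_pow _ _ _]
      ring
    rw [e]
    exact Ideal.mul_mem_left _ _ hI
  · intro e _ he
    rw [MvPolynomial.coeff_smul, coeff_monomial, if_neg fun h' => he (Subtype.ext h'), smul_zero]
  · simp

section Converse

variable {M : Type u} [AddCommGroup M] [Module B M] {g : B} {r : ℕ} {ω : Fin r → M}

theorem coords_bijective (hgen : ∀ w, ∃ N : ℕ, g ^ N • w ∈ Submodule.span B (Set.range ω))
    (hind : ∀ b : Fin r → B, ∑ i, b i • ω i = 0 → ∀ i, ∃ N : ℕ, g ^ N * b i = 0)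
    (T : Submonoid B) (hgT : g ∈ T) :
    Function.Bijective (Fintype.linearCombination (Localization T)
      (fun i => LocalizedModule.mkLinearMap T M (ω i))) := by
  classical
  constructor
  · rw [injective_iff_map_eq_zero]
    intro v hv
    obtain ⟨t, hint⟩ := IsLocalization.exist_integer_multiples T Finset.univ v
    choose e he using fun i => hint i (Finset.mem_univ i)
    have h1 : LocalizedModule.mkLinearMap T M (∑ i, e i • ω i) = 0 := by
      rw [map_sum]
      have h2 : ∀ i, LocalizedModule.mkLinearMap T M (e i • ω i) =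
          algebraMap B (Localization T) (t : B) • (v i • LocalizedModule.mkLinearMap T M (ω i)) := fun i => by
        rw [map_smul, ← IsScalarTower.algebraMap_smul (Localization T) (e i), he i, Algebra.smul_def, mul_smul]
      rw [Finset.sum_congr rfl fun i _ => h2 i, ← Finset.smul_sum]
      rw [Fintype.linearCombination_apply] at hv
      rw [hv, smul_zero]
    obtain ⟨s, hs⟩ := (IsLocalizedModule.eq_zero_iff T _).mp h1
    funext i
    rw [Submonoid.smul_def, Finset.smul_sum] at hs
    simp only [smul_smul] at hs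
    obtain ⟨N, hN⟩ := hind _ hs i
    have hu : IsUnit (algebraMap B (Localization T) (g ^ N * (s : B))) :=
      IsLocalization.map_units (Localization T) (⟨_, T.mul_mem (T.pow_mem hgT N) s.2⟩ : T)
    have h3 := congrArg (algebraMap B (Localization T)) hN
    rw [← mul_assoc, map_mul, map_zero, hu.mul_right_eq_zero, he i, Algebra.smul_def] at h3
    exact (IsLocalization.map_units (Localization T) t).mul_right_eq_zero.mp h3
  · intro y
    obtain ⟨⟨m, t⟩, hy⟩ := IsLocalizedModule.surj T (LocalizedModule.mkLinearMap T M) y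
    obtain ⟨N, hN⟩ := hgen m
    obtain ⟨a, ha⟩ := (Submodule.mem_span_range_iff_exists_fun B).mp hN
    obtain ⟨u, hu⟩ := IsLocalization.map_units (Localization T) (⟨_, T.mul_mem (T.pow_mem hgT N) t.2⟩ : T)
    refine ⟨fun i => (↑u⁻¹ : Localization T) * algebraMap B (Localization T) (a i), ?_⟩
    rw [Fintype.linearCombination_apply]
    simp only [mul_smul, IsScalarTower.algebraMap_smul, ← map_smul, ← Finset.smul_sum, ← map_sum, ha]
    rw [map_smul, ← hy, Submonoid.smul_def, smul_smul]
    rw [← IsScalarTower.algebraMap_smul (Localization T) (g ^ N * (t : B)), smul_smul]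
    rw [show algebraMap B (Localization T) (g ^ N * (t : B)) = u from hu.symm, Units.inv_mul, one_smul]

end Converse

/-- Quasi-regular gives smooth. -/
theorem isDiffSmooth_of_isLocallyQuasiRegular [Algebra.FiniteType A B]
    (hq : PP16.IsLocallyQuasiRegular SS II) : PP16.IsDiffSmooth A B := by
  classical
  have hdata : ∀ p : PrimeSpectrum B, ∃ (g : B) (G : SS) (r : ℕ) (h : Fin r → SS), g ∉ p.asIdeal ∧ μ G = g ∧
      Groth.L14.LocQR.Gen II G h ∧ Groth.L14.LocQR.QRg II G h := by
    intro p
    have hle : II ≤ p.asIdeal.comap μ := fun x hx => by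
      rw [Ideal.mem_comap]
      rw [RingHom.mem_ker] at hx
      rw [hx]
      exact zero_mem _
    obtain ⟨G, hG, -, r, h, hgen, hqr⟩ := Groth.L14.LocQR.exists_data hq (p.asIdeal.comap μ) hle 1
      (fun h1 => p.isPrime.ne_top ((Ideal.eq_top_iff_one _).mpr (by simpa using h1)))
    exact ⟨μ G, G, r, h, hG, rfl, hgen, hqr⟩
  choose g G r h hg hμ hgen hqr using hdata
  let y : ∀ p, Fin (r p) → II := fun p i => ⟨h p i, (hgen p).1 i⟩
  let ω : ∀ p, Fin (r p) → KaehlerDifferential A B := fun p i => qq (y p i)
  have hωgen : ∀ p w, ∃ N : ℕ, g p ^ N • w ∈ Submodule.span B (Set.range (ω p)) := by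
    intro p w
    obtain ⟨⟨z, hz⟩, rfl⟩ := (conormal_kaehler A B).surjective w
    obtain ⟨N, hN⟩ := (hgen p).2 z hz
    obtain ⟨a, ha⟩ := Ideal.mem_span_range_iff_exists_fun.mp hN
    refine ⟨N, ?_⟩
    have e : G p ^ N • (⟨z, hz⟩ : II) = ∑ i, a i • y p i := Subtype.ext (by
      simp only [Submodule.coe_smul_of_tower, AddSubmonoidClass.coe_finsetSum, smul_eq_mul]
      exact ha.symm)
    rw [← hμ, ← map_pow, ← q_smul, e, map_sum]
    refine Submodule.sum_mem _ fun i _ => ?_
    rw [q_smul]
    exact Submodule.smul_mem _ _ (Submodule.subset_span ⟨i, rfl⟩)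
  have hind : ∀ p (b : Fin (r p) → B), ∑ i, b i • ω p i = 0 → ∀ i, ∃ N : ℕ, g p ^ N * b i = 0 := by
    intro p b hb i
    have e : qq (∑ i, algebraMap B SS (b i) • y p i) = qq 0 := by
      rw [map_zero, ← hb, map_sum]
      refine Finset.sum_congr rfl fun i _ => ?_
      rw [q_smul, mul_algebraMap_eq]
    have h2 := ((conormal_kaehler A B).eq_iff _ _).mp e
    simp only [Submodule.coe_zero, sub_zero, AddSubmonoidClass.coe_finsetSum, Submodule.coe_smul_of_tower,
      smul_eq_mul] at h2
    obtain ⟨N, hN⟩ := hqr p 1 (∑ j, C (algebraMap B SS (b j)) * X j)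
      (Groth.L14.QRR.isHomogeneous_linear _) ⟨0, by simpa [eval_sum, y] using h2⟩ (Finsupp.single i 1)
    rw [Groth.L14.QRR.coeff_linear, RingHom.mem_ker, map_mul, map_pow, hμ, mul_algebraMap_eq] at hN
    exact ⟨N, hN⟩
  have hspan : Ideal.span (Set.range g) = ⊤ := by
    by_contra hne
    obtain ⟨m, hm, hle⟩ := Ideal.exists_le_maximal _ hne
    exact hg ⟨m, hm.isPrime⟩ (hle (Ideal.subset_span ⟨⟨m, hm.isPrime⟩, rfl⟩))
  haveI : Module.FinitePresentation B (KaehlerDifferential A B) := by
    refine Module.FinitePresentation.of_localizationSpan (Set.range g) hspan ?_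
    rintro ⟨_, p, rfl⟩
    exact Module.FinitePresentation.of_equiv (LinearEquiv.ofBijective _
      (coords_bijective (hωgen p) (hind p) (Submonoid.powers (g p)) (Submonoid.mem_powers _)))
  have hproj : Module.Projective B (KaehlerDifferential A B) := by
    refine Module.projective_of_localization_maximal fun m hm => ?_
    exact Module.Projective.of_equiv (LinearEquiv.ofBijective _
      (coords_bijective (hωgen ⟨m, hm.isPrime⟩) (hind ⟨m, hm.isPrime⟩) m.primeCompl (hg ⟨m, hm.isPrime⟩)))
  refine isDiffSmooth_of_injective A B hproj fun ι _ => ?_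
  rw [injective_iff_map_eq_zero]
  intro x hx
  suffices hkill : ∀ p, ∃ N : ℕ, g p ^ N • x = 0 by
    let An : Ideal B := (⊥ : Submodule B (SymmetricPower B ι (KaehlerDifferential A B))).colon {x}
    have hAn : An = ⊤ := by
      by_contra hne
      obtain ⟨m, hm, hle⟩ := Ideal.exists_le_maximal _ hne
      obtain ⟨N, hN⟩ := hkill ⟨m, hm.isPrime⟩
      exact hg ⟨m, hm.isPrime⟩ (hm.isPrime.mem_of_pow_mem N (hle (Submodule.mem_colon_singleton.mpr
        ((Submodule.mem_bot B).mpr hN))))
    have h1 : (1 : B) ∈ An := hAn ▸ Submodule.mem_top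
    have h2 := (Submodule.mem_bot B).mp (Submodule.mem_colon_singleton.mp h1)
    rwa [one_smul] at h2
  intro p
  have hscale : ∀ v : SymmetricPower B ι (KaehlerDifferential A B), ∃ N : ℕ, g p ^ N • v ∈
      Submodule.span B (Set.range fun f : ι → Fin (r p) => SymmetricPower.tprod B fun j => ω p (f j)) := by
    intro v
    have hv : v ∈ Submodule.span B (Set.range (SymmetricPower.tprod B)) := by
      rw [SymmetricPower.span_tprod_eq_top]; trivial
    induction hv using Submodule.span_induction with
    | mem v hv =>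
      obtain ⟨m, rfl⟩ := hv
      choose N hN using fun j => hωgen p (m j)
      refine ⟨∑ j, N j, ?_⟩
      choose e he using fun j => (Submodule.mem_span_range_iff_exists_fun B).mp (hN j)
      rw [← Finset.prod_pow_eq_pow_sum, ← MultilinearMap.map_smul_univ,
        show (fun j => g p ^ N j • m j) = fun j => ∑ i, e j i • ω p i from funext fun j => (he j).symm,
        MultilinearMap.map_sum]
      refine Submodule.sum_mem _ fun f _ => ?_
      rw [MultilinearMap.map_smul_univ]
      exact Submodule.smul_mem _ _ (Submodule.subset_span ⟨f, rfl⟩)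
    | zero => exact ⟨0, by simp⟩
    | add v w _ _ hv hw =>
      obtain ⟨N, hN⟩ := hv
      obtain ⟨M, hM⟩ := hw
      refine ⟨N + M, ?_⟩
      rw [smul_add]
      refine add_mem ?_ ?_
      · rw [add_comm, pow_add, mul_smul]; exact Submodule.smul_mem _ _ hN
      · rw [pow_add, mul_smul]; exact Submodule.smul_mem _ _ hM
    | smul c v _ hv =>
      obtain ⟨N, hN⟩ := hv
      exact ⟨N, by rw [smul_comm]; exact Submodule.smul_mem _ _ hN⟩
  obtain ⟨N, hN⟩ := hscale x
  obtain ⟨e, he⟩ := (Submodule.mem_span_range_iff_exists_fun B).mp hN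
  let P : MvPolynomial (Fin (r p)) SS := ∑ f : ι → Fin (r p), monomial (counts f) (algebraMap B SS (e f))
  have hPhom : P.IsHomogeneous (Fintype.card ι) :=
    IsHomogeneous.sum _ _ _ fun f _ => isHomogeneous_monomial _ (degree_counts f)
  have hphi : ∀ t : Finset (ι → Fin (r p)), ∃ hm,
      phi A B ι (∑ f ∈ t, e f • SymmetricPower.tprod B fun j => ω p (f j)) =
        mkGr B II _ (∑ f ∈ t, eval (h p) (monomial (counts f) (algebraMap B SS (e f)))) hm := by
    intro t
    induction t using Finset.induction_on with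
    | empty => exact ⟨by simp, by simp only [Finset.sum_empty, map_zero]; rfl⟩
    | insert f t hf ih =>
      obtain ⟨hm, hh⟩ := ih
      have hev : eval (h p) (monomial (counts f) (algebraMap B SS (e f))) = e f • ∏ j, (y p (f j) : SS) := by
        rw [eval_monomial, Finsupp.prod_fintype _ _ fun i => pow_zero _, ← prod_pow_counts, Algebra.smul_def]
      refine ⟨?_, ?_⟩
      · rw [Finset.sum_insert hf, hev]
        exact add_mem (Submodule.smul_of_tower_mem _ _ (prod_mem_card _ fun j => (y p (f j)).2)) hm
      · rw [Finset.sum_insert hf, map_add, map_smul, phi_prod, hh, ← mkGr_smul, ← mkGr_add, mkGr_eq_iff,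
          Finset.sum_insert hf, hev, sub_self]
        exact zero_mem _
  obtain ⟨hm, hh⟩ := hphi Finset.univ
  rw [he, map_smul, hx, smul_zero] at hh
  have hmem : eval (h p) P ∈ II ^ (Fintype.card ι + 1) := by
    rw [map_sum]
    have h2 : mkGr B II (Fintype.card ι) 0 (zero_mem _) = mkGr B II _ _ hm := hh
    have h3 := (mkGr_eq_iff B II _ (zero_mem _) hm).mp h2
    rwa [zero_sub, neg_mem_iff] at h3
  choose Md hMd using fun d => hqr p _ P hPhom ⟨0, by rw [pow_zero, one_mul]; exact hmem⟩ d
  let T := Finset.univ.image fun f : ι → Fin (r p) => counts f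
  refine ⟨T.sup Md + N, ?_⟩
  rw [pow_add, mul_smul, ← he, Finset.smul_sum]
  rw [← Finset.sum_fiberwise_of_maps_to (t := T) (fun f _ => Finset.mem_image_of_mem _ (Finset.mem_univ f))]
  refine Finset.sum_eq_zero fun d hd => ?_
  obtain ⟨f₀, -, rfl⟩ := Finset.mem_image.mp hd
  obtain ⟨k, hk⟩ := Nat.exists_eq_add_of_le (Finset.le_sup (f := Md) hd)
  rw [Finset.sum_congr rfl fun f hf => congrArg (g p ^ T.sup Md • e f • ·)
    (tprod_eq_of_counts (ω p) (Finset.mem_filter.mp hf).2)]
  rw [← Finset.smul_sum, ← Finset.sum_smul, smul_smul]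
  have hc := hMd (counts f₀)
  simp only [P, coeff_sum, coeff_monomial] at hc
  rw [← Finset.sum_filter, RingHom.mem_ker, map_mul, map_pow, hμ, map_sum] at hc
  simp only [mul_algebraMap_eq] at hc
  rw [hk, add_comm, pow_add, mul_assoc, hc, mul_zero, zero_smul]

end Groth.L14.PPSmooth
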