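import Groth.Agent.L14.PPSmooth.Monomial
import Mathlib.RingTheory.Kaehler.Polynomial
import Mathlib.RingTheory.Etale.Kaehler
import Mathlib.RingTheory.Localization.FractionRing

/-!
Principal parts of the field of fractions of a polynomial ring.
-/

set_option autoImplicit false

noncomputable section

universe u

open TensorProduct

namespace Groth.L14.PPSmooth

variable {A B : Type u} [CommRing A] [CommRing B] [Algebra A B] {ι : Type} [Fintype ι] (z : ι → B)

theorem aeval_surj_ker [DecidableEq ι] (hB : PP16.IsDiffSmooth A B)
    (bΩ : Module.Basis ι B (KaehlerDifferential A B)) (hb : ∀ i, bΩ i = KaehlerDifferential.D A B (z i)) (n : ℕ)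
    (f : MvPolynomial ι B →ₐ[B] PP16.P n A B)
    (hf : ∀ i, f (MvPolynomial.X i) = PP16.dn n A B (z i) - algebraMap B (PP16.P n A B) (z i)) :
    Function.Surjective f ∧ RingHom.ker f.toRingHom = MvPolynomial.idealOfVars ι B ^ (n + 1) := by
  classical
  obtain ⟨b, hbP⟩ := exists_basis_P z hB bΩ hb n
  have hmon : ∀ d : ι →₀ ℕ, f (MvPolynomial.monomial d 1) =
      ∏ i, (PP16.dn n A B (z i) - algebraMap B (PP16.P n A B) (z i)) ^ d i := fun d => by
    rw [MvPolynomial.monomial_eq, map_one, one_mul, Finsupp.prod_fintype _ _ fun i => pow_zero _, map_prod]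
    exact Finset.prod_congr rfl fun i _ => by rw [map_pow, hf]
  have hmon' : ∀ d : ι →₀ ℕ, f (MvPolynomial.monomial d 1) =
      if h : ∑ i, d i ≤ n then b ⟨⇑d, h⟩ else 0 := fun d => by
    rw [hmon]
    split_ifs with h
    · rw [hbP]
    · have e : ∏ i, (PP16.dn n A B (z i) - algebraMap B (PP16.P n A B) (z i)) ^ d i =
          Ideal.Quotient.mkₐ B _ (mon A z d) := by simp only [mon, map_prod, map_pow]; rfl
      rw [e]
      exact Ideal.Quotient.eq_zero_iff_mem.mpr (mon_mem_of_le z (by omega))
  refine ⟨fun x => ?_, ?_⟩
  · have hle : Submodule.span B (Set.range b) ≤ LinearMap.range f.toLinearMap := by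
      rw [Submodule.span_le]
      rintro _ ⟨q, rfl⟩
      refine ⟨MvPolynomial.monomial (Finsupp.equivFunOnFinite.symm q.1) 1, ?_⟩
      rw [AlgHom.toLinearMap_apply, hmon', dif_pos (by simpa using q.2)]
      exact congrArg b (Subtype.ext (by simp))
    exact hle (b.mem_span x)
  · ext P
    rw [RingHom.mem_ker, MvPolynomial.mem_pow_idealOfVars_iff' (n + 1) P]
    have key : ∀ q : {p : ι → ℕ // ∑ i, p i ≤ n},
        b.repr (f P) q = P.coeff (Finsupp.equivFunOnFinite.symm q.1) := fun q => by
      induction P using MvPolynomial.induction_on' with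
      | add P Q hP hQ => rw [map_add, map_add, Finsupp.add_apply, hP, hQ, MvPolynomial.coeff_add]
      | monomial d c =>
        rw [show MvPolynomial.monomial d c = c • MvPolynomial.monomial d (1 : B) by
          rw [MvPolynomial.smul_monomial, smul_eq_mul, mul_one], map_smul, map_smul, Finsupp.smul_apply, hmon',
          MvPolynomial.coeff_smul, MvPolynomial.coeff_monomial]
        congr 1
        by_cases hd : d = Finsupp.equivFunOnFinite.symm q.1
        · subst hd
          rw [dif_pos (by simpa using q.2), if_pos rfl, Module.Basis.repr_self, Finsupp.single_apply,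
            if_pos (Subtype.ext (by simp))]
        · rw [if_neg hd]
          split_ifs with h
          · rw [Module.Basis.repr_self, Finsupp.single_apply, if_neg]
            intro e
            exact hd (Finsupp.ext fun i => by simpa using congrFun (congrArg Subtype.val e) i)
          · rw [map_zero, Finsupp.zero_apply]
    constructor
    · intro h d hd
      have hd' : ∑ i, d i ≤ n := by rw [← Finsupp.degree_eq_sum]; omega
      have := key ⟨⇑d, hd'⟩
      rw [show f P = 0 from h, map_zero, Finsupp.zero_apply] at this
      simpa using this.symm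
    · intro h
      refine b.repr.injective (Finsupp.ext fun q => ?_)
      refine (key q).trans ((h _ ?_).trans (by simp))
      rw [Finsupp.degree_eq_sum]
      have := q.2
      simpa using Nat.lt_succ_of_le this

theorem fracPoly (k : Type u) [Field k] (r n : ℕ)
    (f : MvPolynomial (Fin r) (FractionRing (MvPolynomial (Fin r) k)) →ₐ[FractionRing (MvPolynomial (Fin r) k)]
      PP16.P n k (FractionRing (MvPolynomial (Fin r) k)))
    (hf : ∀ i, f (MvPolynomial.X i) =
      PP16.dn n k (FractionRing (MvPolynomial (Fin r) k))
          (algebraMap (MvPolynomial (Fin r) k) (FractionRing (MvPolynomial (Fin r) k)) (MvPolynomial.X i)) -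
        algebraMap (FractionRing (MvPolynomial (Fin r) k)) (PP16.P n k (FractionRing (MvPolynomial (Fin r) k)))
          (algebraMap (MvPolynomial (Fin r) k) (FractionRing (MvPolynomial (Fin r) k)) (MvPolynomial.X i))) :
    Function.Surjective f ∧ RingHom.ker f.toRingHom =
      MvPolynomial.idealOfVars (Fin r) (FractionRing (MvPolynomial (Fin r) k)) ^ (n + 1) := by
  haveI : Algebra.FormallyEtale (MvPolynomial (Fin r) k) (FractionRing (MvPolynomial (Fin r) k)) :=
    Algebra.FormallyEtale.of_isLocalization (nonZeroDivisors (MvPolynomial (Fin r) k))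
  haveI : Algebra.FormallySmooth k (FractionRing (MvPolynomial (Fin r) k)) :=
    Algebra.FormallySmooth.comp k (MvPolynomial (Fin r) k) _
  refine aeval_surj_ker _ (isDiffSmooth_of_formallySmooth _ _)
    (((KaehlerDifferential.mvPolynomialBasis k (Fin r)).baseChange _).map
      (KaehlerDifferential.tensorKaehlerEquivOfFormallyEtale k (MvPolynomial (Fin r) k) _)) (fun i => ?_) n f hf
  rw [Module.Basis.map_apply, Module.Basis.baseChange_apply, KaehlerDifferential.tensorKaehlerEquivOfFormallyEtale_apply,
    KaehlerDifferential.mapBaseChange_tmul, one_smul]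
  have : (KaehlerDifferential.mvPolynomialBasis k (Fin r)) i =
      KaehlerDifferential.D k _ (MvPolynomial.X i) := by
    apply (KaehlerDifferential.mvPolynomialBasis k (Fin r)).repr.injective
    rw [Module.Basis.repr_self, KaehlerDifferential.mvPolynomialBasis_repr_D_X]
  rw [this, KaehlerDifferential.map_D]

end Groth.L14.PPSmooth
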