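import Groth.Agent.L14.PPSmooth.Sym
import Groth.Prelude.Def_PP16

/-!
Products of elements of an ideal in its graded pieces, as linear maps out of symmetric powers.
-/

set_option autoImplicit false

noncomputable section

universe u

open TensorProduct

namespace Groth.L14.PPSmooth

variable (B : Type u) {S : Type u} [CommRing B] [CommRing S] [Algebra B S] (I : Ideal S)

/-- The graded piece `I^n / I^(n+1)` as a `B`-module. -/
abbrev Gr (n : ℕ) : Type u :=
  ↥((I ^ n).restrictScalars B) ⧸
    (((I ^ (n + 1)).restrictScalars B).comap ((I ^ n).restrictScalars B).subtype)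

/-- The class of an element of `I^n`. -/
def mkGr (n : ℕ) (x : S) (hx : x ∈ I ^ n) : Gr B I n := Submodule.Quotient.mk ⟨x, hx⟩

theorem mkGr_eq_iff (n : ℕ) {x y : S} (hx : x ∈ I ^ n) (hy : y ∈ I ^ n) :
    mkGr B I n x hx = mkGr B I n y hy ↔ x - y ∈ I ^ (n + 1) :=
  (Submodule.Quotient.eq _).trans Iff.rfl

theorem mkGr_add (n : ℕ) {x y : S} (hx : x ∈ I ^ n) (hy : y ∈ I ^ n) :
    mkGr B I n (x + y) (add_mem hx hy) = mkGr B I n x hx + mkGr B I n y hy := rfl

theorem mkGr_smul (n : ℕ) (b : B) {x : S} (hx : x ∈ I ^ n) :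
    mkGr B I n (b • x) (Submodule.smul_of_tower_mem _ b hx) = b • mkGr B I n x hx := rfl

theorem mkGr_surjective (n : ℕ) (g : Gr B I n) : ∃ x hx, mkGr B I n x hx = g := by
  obtain ⟨⟨x, hx⟩, rfl⟩ := Submodule.Quotient.mk_surjective _ g
  exact ⟨x, hx, rfl⟩

variable {B I}

theorem prod_sub_mem {ι : Type*} [DecidableEq ι] (s : Finset ι) (x y : ι → S) (hx : ∀ i, x i ∈ I)
    (hy : ∀ i, y i ∈ I) (h : ∀ i, x i - y i ∈ I ^ 2) :
    ∏ i ∈ s, x i - ∏ i ∈ s, y i ∈ I ^ (s.card + 1) := by
  induction s using Finset.induction_on with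
  | empty => simp
  | insert a s ha ih =>
    rw [Finset.prod_insert ha, Finset.prod_insert ha, Finset.card_insert_of_notMem ha]
    have e : x a * ∏ i ∈ s, x i - y a * ∏ i ∈ s, y i =
        (x a - y a) * ∏ i ∈ s, x i + y a * (∏ i ∈ s, x i - ∏ i ∈ s, y i) := by ring
    rw [e]
    refine add_mem ?_ ?_
    · have h1 : (∏ i ∈ s, x i) ∈ I ^ s.card := by
        rw [← Finset.prod_const]
        exact Ideal.prod_mem_prod fun i _ => hx i
      have h2 := Ideal.mul_mem_mul (h a) h1
      rw [← pow_add] at h2
      exact Ideal.pow_le_pow_right (by omega) h2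
    · have h2 := Ideal.mul_mem_mul (hy a) ih
      rw [← pow_succ'] at h2
      exact h2

theorem prod_mem_card {ι : Type*} [Fintype ι] (x : ι → S) (hx : ∀ i, x i ∈ I) :
    ∏ i, x i ∈ I ^ Fintype.card ι := by
  rw [← Finset.card_univ, ← Finset.prod_const]
  exact Ideal.prod_mem_prod fun i _ => hx i

variable (B I) {M : Type u} [AddCommGroup M] [Module S M]

/-- Data identifying `M` with the conormal module of `I`. -/
structure Conormal (q : I →ₗ[S] M) : Prop where
  surjective : Function.Surjective q
  eq_iff : ∀ x y : I, q x = q y ↔ (x - y : S) ∈ I ^ 2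

variable {B I} {q : I →ₗ[S] M} (hq : Conormal I q) {ι : Type u} [Fintype ι]

variable (B) in
/-- Auxiliary function: the class of the product of arbitrary lifts. -/
def prodFun (m : ι → M) : Gr B I (Fintype.card ι) :=
  mkGr B I _ (∏ i, ((Function.surjInv hq.surjective (m i) : I) : S))
    (prod_mem_card _ fun i => (Function.surjInv hq.surjective (m i)).2)

theorem prodFun_comp (x : ι → I) :
    prodFun B hq (fun i => q (x i)) = mkGr B I _ (∏ i, (x i : S)) (prod_mem_card _ fun i => (x i).2) := by
  classical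
  rw [prodFun, mkGr_eq_iff, ← Finset.card_univ]
  refine prod_sub_mem _ _ _ (fun i => (Function.surjInv hq.surjective (q (x i))).2) (fun i => (x i).2)
    fun i => ?_
  exact (hq.eq_iff _ _).mp (Function.surjInv_eq hq.surjective _)

variable [Module B M] [IsScalarTower B S M]

variable (B) in
/-- The product map on tuples, as a multilinear map. -/
def prodMul : MultilinearMap B (fun _ : ι => M) (Gr B I (Fintype.card ι)) where
  toFun := prodFun B hq
  map_update_add' {_} m i a b := by
    classical
    obtain ⟨x, rfl⟩ : ∃ x : ι → I, (fun i => q (x i)) = m :=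
      ⟨fun i => Function.surjInv hq.surjective (m i), funext fun i => Function.surjInv_eq _ _⟩
    obtain ⟨a, rfl⟩ := hq.surjective a
    obtain ⟨b, rfl⟩ := hq.surjective b
    have hu : ∀ c : I, Function.update (fun i => q (x i)) i (q c) = fun j => q (Function.update x i c j) :=
      fun c => funext fun j => (Function.apply_update (fun _ => q) x i c j).symm
    rw [← map_add, hu, hu, hu, prodFun_comp, prodFun_comp, prodFun_comp, ← mkGr_add, mkGr_eq_iff]
    have hval : ∀ c : I, (∏ j, (Function.update x i c j : S)) =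
        (c : S) * ∏ j ∈ Finset.univ \ {i}, (x j : S) := fun c => by
      rw [show (fun j => ((Function.update x i c j : I) : S)) = Function.update (fun j => (x j : S)) i (c : S)
        from funext fun j => Function.apply_update (fun _ => Subtype.val) x i c j]
      exact Finset.prod_update_of_mem (Finset.mem_univ i) _ _
    rw [hval, hval, hval, Submodule.coe_add, add_mul, sub_self]
    exact zero_mem _
  map_update_smul' {_} m i r a := by
    classical
    obtain ⟨x, rfl⟩ : ∃ x : ι → I, (fun i => q (x i)) = m :=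
      ⟨fun i => Function.surjInv hq.surjective (m i), funext fun i => Function.surjInv_eq _ _⟩
    obtain ⟨a, rfl⟩ := hq.surjective a
    have hu : ∀ c : I, Function.update (fun i => q (x i)) i (q c) = fun j => q (Function.update x i c j) :=
      fun c => funext fun j => (Function.apply_update (fun _ => q) x i c j).symm
    rw [← LinearMap.map_smul_of_tower q, hu, hu, prodFun_comp, prodFun_comp, ← mkGr_smul, mkGr_eq_iff]
    have hval : ∀ c : I, (∏ j, (Function.update x i c j : S)) =
        (c : S) * ∏ j ∈ Finset.univ \ {i}, (x j : S) := fun c => by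
      rw [show (fun j => ((Function.update x i c j : I) : S)) = Function.update (fun j => (x j : S)) i (c : S)
        from funext fun j => Function.apply_update (fun _ => Subtype.val) x i c j]
      exact Finset.prod_update_of_mem (Finset.mem_univ i) _ _
    rw [hval, hval, Submodule.coe_smul_of_tower, smul_mul_assoc, sub_self]
    exact zero_mem _

theorem prodMul_comp (x : ι → I) :
    prodMul B hq (fun i => q (x i)) = mkGr B I _ (∏ i, (x i : S)) (prod_mem_card _ fun i => (x i).2) :=
  prodFun_comp hq x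

variable (B) in
/-- The canonical map `Sym^n(I/I²) → I^n/I^(n+1)`. -/
def symGr : SymmetricPower B ι M →ₗ[B] Gr B I (Fintype.card ι) :=
  symLift (prodMul B hq) fun e m => by
    obtain ⟨x, rfl⟩ : ∃ x : ι → I, (fun i => q (x i)) = m :=
      ⟨fun i => Function.surjInv hq.surjective (m i), funext fun i => Function.surjInv_eq _ _⟩
    rw [prodMul_comp hq x, prodMul_comp hq (fun i => x (e i)), mkGr_eq_iff]
    rw [Equiv.prod_comp e fun i => (x i : S), sub_self]
    exact zero_mem _

theorem symGr_tprod (x : ι → I) :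
    symGr B hq (SymmetricPower.tprod B fun i => q (x i)) =
      mkGr B I _ (∏ i, (x i : S)) (prod_mem_card _ fun i => (x i).2) :=
  (symLift_tprod _ _ _).trans (prodMul_comp hq x)

theorem pow_eq_span (n : ℕ) :
    I ^ n = Ideal.span (Set.range fun x : Fin n → I => ∏ i, (x i : S)) := by
  induction n with
  | zero => simp [Ideal.span_singleton_one, Set.range_const]
  | succ n ih =>
    refine le_antisymm ?_ (Ideal.span_le.mpr ?_)
    · rw [pow_succ', Ideal.mul_le]
      intro a ha b hb
      rw [ih] at hb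
      induction hb using Submodule.span_induction with
      | mem b hb =>
        obtain ⟨x, rfl⟩ := hb
        refine Ideal.subset_span ⟨Fin.cons ⟨a, ha⟩ x, ?_⟩
        simp only [Fin.prod_univ_succ, Fin.cons_zero, Fin.cons_succ]
      | zero => rw [mul_zero]; exact zero_mem _
      | add b c _ _ hb hc => rw [mul_add]; exact add_mem hb hc
      | smul r b _ hb => rw [smul_eq_mul, mul_left_comm]; exact Ideal.mul_mem_left _ r hb
    · rintro _ ⟨x, rfl⟩
      simpa using prod_mem_card (fun i => (x i : S)) fun i => (x i).2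

theorem symGr_surjective (hsec : ∀ s : S, ∃ b : B, s - algebraMap B S b ∈ I) :
    Function.Surjective (symGr B hq : SymmetricPower B ι M →ₗ[B] Gr B I (Fintype.card ι)) := by
  intro g
  obtain ⟨x, hx, rfl⟩ := mkGr_surjective B I _ g
  have hx' := hx
  rw [pow_eq_span] at hx'
  have key : ∀ y ∈ Ideal.span (Set.range fun x : Fin (Fintype.card ι) → I => ∏ i, (x i : S)),
      ∃ hy : y ∈ I ^ Fintype.card ι, ∃ w, symGr B hq w = mkGr B I _ y hy := by
    intro y hy
    induction hy using Submodule.span_induction with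
    | mem y hy =>
      obtain ⟨x, rfl⟩ := hy
      have e : (∏ i, (x (Fintype.equivFin ι i) : S)) = ∏ i, (x i : S) :=
        Equiv.prod_comp (Fintype.equivFin ι) fun i => (x i : S)
      refine ⟨(congrArg (· ∈ I ^ Fintype.card ι) e).mp (prod_mem_card _ fun i => (x (Fintype.equivFin ι i)).2),
        SymmetricPower.tprod B fun i => q (x (Fintype.equivFin ι i)), ?_⟩
      rw [symGr_tprod hq, mkGr_eq_iff, e, sub_self]
      exact zero_mem _
    | zero => exact ⟨zero_mem _, 0, map_zero _⟩
    | add y z _ _ hy hz =>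
      obtain ⟨hy, w, hw⟩ := hy
      obtain ⟨hz, w', hw'⟩ := hz
      exact ⟨add_mem hy hz, w + w', by rw [map_add, hw, hw', mkGr_add]⟩
    | smul r y _ hy =>
      obtain ⟨hy, w, hw⟩ := hy
      obtain ⟨b, hb⟩ := hsec r
      refine ⟨Ideal.mul_mem_left _ r hy, b • w, ?_⟩
      rw [map_smul, hw, ← mkGr_smul, mkGr_eq_iff, Algebra.smul_def, smul_eq_mul, ← sub_mul]
      have := Ideal.mul_mem_mul hb hy
      rw [← pow_succ'] at this
      rw [show (algebraMap B S b - r) * y = -((r - algebraMap B S b) * y) by ring]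
      exact neg_mem this
  obtain ⟨_, w, hw⟩ := key x hx'
  exact ⟨w, hw⟩

/-- Injectivity of `symGr` from a map of `B`-algebras inverting it in degree one. -/
theorem symGr_injective {σ : Type u} (s : M →ₗ[B] σ →₀ B) (π : (σ →₀ B) →ₗ[B] M)
    (hπ : ∀ m, π (s m) = m)
    (Θ : S →ₐ[B] MvPolynomial σ B ⧸ MvPolynomial.idealOfVars σ B ^ (Fintype.card ι + 1))
    (hΘ : ∀ x : I, Θ x - Ideal.Quotient.mk _ (lin B (s (q x))) ∈
      (MvPolynomial.idealOfVars σ B).map (Ideal.Quotient.mk _) ^ 2) :
    Function.Injective (symGr B hq : SymmetricPower B ι M →ₗ[B] Gr B I (Fintype.card ι)) := by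
  classical
  let N := (MvPolynomial.idealOfVars σ B).map
    (Ideal.Quotient.mk (MvPolynomial.idealOfVars σ B ^ (Fintype.card ι + 1)))
  have hlin : ∀ v, Ideal.Quotient.mk _ (lin B v) ∈ N := fun v => Ideal.mem_map_of_mem _ (lin_mem v)
  have hI : ∀ x ∈ I, Θ x ∈ N := fun x hx => by
    have h1 := Ideal.pow_le_self two_ne_zero (hΘ ⟨x, hx⟩)
    simpa using add_mem h1 (hlin (s (q ⟨x, hx⟩)))
  have hN : N ^ (Fintype.card ι + 1) = ⊥ := by
    rw [← Ideal.map_pow, Ideal.map_quotient_self]
  have hkill : ∀ x ∈ I ^ (Fintype.card ι + 1), Θ x = 0 := fun x hx => by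
    have h1 : Θ x ∈ (I ^ (Fintype.card ι + 1)).map Θ := Ideal.mem_map_of_mem Θ hx
    rw [Ideal.map_pow] at h1
    have h2 : I.map Θ ≤ N := Ideal.map_le_iff_le_comap.mpr hI
    have h3 := Ideal.pow_right_mono h2 (Fintype.card ι + 1) h1
    rwa [hN, Ideal.mem_bot] at h3
  let G : Gr B I (Fintype.card ι) →ₗ[B]
      MvPolynomial σ B ⧸ MvPolynomial.idealOfVars σ B ^ (Fintype.card ι + 1) :=
    Submodule.liftQ _ (Θ.toLinearMap ∘ₗ ((I ^ Fintype.card ι).restrictScalars B).subtype)
      fun x hx => hkill _ hx
  rw [injective_iff_map_eq_zero]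
  intro w hw
  refine sym_eq_zero_of_split s π hπ (G ∘ₗ symGr B hq) (fun m => ?_) ?_
  · obtain ⟨x, rfl⟩ : ∃ x : ι → I, (fun i => q (x i)) = m :=
      ⟨fun i => Function.surjInv hq.surjective (m i), funext fun i => Function.surjInv_eq _ _⟩
    rw [LinearMap.comp_apply, symGr_tprod hq]
    change Θ (∏ i, (x i : S)) = _
    rw [map_prod, map_prod, ← sub_eq_zero]
    have h4 := prod_sub_mem Finset.univ (fun i => Θ (x i : S))
      (fun i => Ideal.Quotient.mk _ (lin B (s (q (x i))))) (fun i => hI _ (x i).2) (fun i => hlin _) fun i => hΘ (x i)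
    rw [Finset.card_univ, hN, Ideal.mem_bot] at h4
    exact h4
  · rw [LinearMap.comp_apply, hw, map_zero]

end Groth.L14.PPSmooth
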