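import Groth.Agent.L14.QRegRegular
import Groth.Prelude.Def_PP16
import Mathlib.RingTheory.Localization.Ideal
import Mathlib.RingTheory.Spectrum.Prime.Topology
import Mathlib.RingTheory.Ideal.Operations

/-!
Quasi-regular sequences on basic opens, expressed in the base ring.
-/

set_option autoImplicit false
set_option linter.style.haveILetI false

noncomputable section

universe u

open MvPolynomial

namespace Groth.L14.LocQR

variable {R : Type u} [CommRing R] (J : Ideal R)

/-- `h` generates `J` on `D(g)`. -/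
def Gen (g : R) {r : ℕ} (h : Fin r → R) : Prop :=
  (∀ i, h i ∈ J) ∧ ∀ x ∈ J, ∃ N : ℕ, g ^ N * x ∈ Ideal.span (Set.range h)

/-- `h` is quasi-regular with respect to `J` on `D(g)`. -/
def QRg (g : R) {r : ℕ} (h : Fin r → R) : Prop :=
  ∀ (n : ℕ) (G : MvPolynomial (Fin r) R), G.IsHomogeneous n →
    (∃ N : ℕ, g ^ N * eval h G ∈ J ^ (n + 1)) → ∀ d, ∃ N : ℕ, g ^ N * G.coeff d ∈ J

variable {J}

theorem Gen.mul {g : R} {r : ℕ} {h : Fin r → R} (hg : Gen J g h) (u : R) : Gen J (g * u) h := by
  refine ⟨hg.1, fun x hx => ?_⟩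
  obtain ⟨N, hN⟩ := hg.2 x hx
  refine ⟨N, ?_⟩
  rw [mul_pow, mul_comm (g ^ N), mul_assoc]
  exact Ideal.mul_mem_left _ _ hN

theorem QRg.mul {g : R} {r : ℕ} {h : Fin r → R} (hg : QRg J g h) (u : R) : QRg J (g * u) h := by
  rintro n G hG ⟨N, hN⟩ d
  obtain ⟨M, hM⟩ := hg n (C (u ^ N) * G) (hG.C_mul _) ⟨N, by
    rw [eval_mul, eval_C, ← mul_assoc, ← mul_pow]; exact hN⟩ d
  refine ⟨M + N, ?_⟩
  rw [coeff_C_mul, ← mul_assoc] at hM
  have := Ideal.mul_mem_left _ (g ^ N * u ^ M) hM
  convert this using 1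
  ring

theorem exists_pow_mul_mem_map {g : R} (K : Ideal R) {x : R}
    (hx : algebraMap R (Localization.Away g) x ∈ K.map (algebraMap R (Localization.Away g))) :
    ∃ N : ℕ, g ^ N * x ∈ K := by
  obtain ⟨⟨⟨k, hk⟩, ⟨s, hs⟩⟩, he⟩ :=
    (IsLocalization.mem_map_algebraMap_iff (Submonoid.powers g) (Localization.Away g)).mp hx
  obtain ⟨a, rfl⟩ := hs
  rw [← map_mul, IsLocalization.eq_iff_exists (Submonoid.powers g)] at he
  obtain ⟨⟨_, b, rfl⟩, hb⟩ := he
  refine ⟨b + a, ?_⟩
  have e : g ^ (b + a) * x = g ^ b * (x * g ^ a) := by ring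
  rw [e, show g ^ b * (x * g ^ a) = g ^ b * k from hb]
  exact K.mul_mem_left _ hk

theorem mem_map_of_pow_mul_mem {g : R} (K : Ideal R) {x : R} {N : ℕ} (hx : g ^ N * x ∈ K) :
    algebraMap R (Localization.Away g) x ∈ K.map (algebraMap R (Localization.Away g)) := by
  have h := Ideal.mem_map_of_mem (algebraMap R (Localization.Away g)) hx
  rwa [map_mul, map_pow, Ideal.unit_mul_mem_iff_mem _
    ((IsLocalization.Away.algebraMap_isUnit g).pow N)] at h

variable (J) in
theorem exists_data_span {g : R} {r : ℕ} {h : Fin r → R} (hg : Gen J g h) :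
    Ideal.span (Set.range fun i => algebraMap R (Localization.Away g) (h i)) =
      J.map (algebraMap R (Localization.Away g)) := by
  rw [show Set.range (fun i => algebraMap R (Localization.Away g) (h i)) =
    algebraMap R (Localization.Away g) '' Set.range h from Set.range_comp _ h, ← Ideal.map_span]
  refine le_antisymm (Ideal.map_mono (Ideal.span_le.mpr (by rintro _ ⟨i, rfl⟩; exact hg.1 i))) ?_
  rw [Ideal.map_le_iff_le_comap]
  intro x hx
  obtain ⟨N, hN⟩ := hg.2 x hx
  exact mem_map_of_pow_mul_mem _ hN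

theorem qrg_of_isQuasiRegular {g : R} {r : ℕ} {h : Fin r → R} (hg : Gen J g h)
    (hq : CAlgX.IsQuasiRegular fun i => algebraMap R (Localization.Away g) (h i)) : QRg J g h := by
  rintro n G hG ⟨N, hN⟩ d
  apply exists_pow_mul_mem_map
  rw [← exists_data_span J hg, ← coeff_map]
  refine hq n _ (hG.map _) ?_ d
  rw [exists_data_span J hg, ← Ideal.map_pow, eval_map, ← Function.comp_def, ← eval₂_comp]
  exact mem_map_of_pow_mul_mem _ hN

theorem isQuasiRegular_of_qrg {g : R} {r : ℕ} {h : Fin r → R} (hg : Gen J g h) (hq : QRg J g h) :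
    CAlgX.IsQuasiRegular fun i => algebraMap R (Localization.Away g) (h i) := by
  classical
  intro n P hP hmem d
  rw [exists_data_span J hg] at hmem ⊢
  by_cases hd : P.coeff d = 0
  · rw [hd]; exact zero_mem _
  obtain ⟨⟨s, hs⟩, hint⟩ := IsLocalization.exist_integer_multiples (Submonoid.powers g) P.support
    fun d => P.coeff d
  obtain ⟨a, rfl⟩ := hs
  choose c hc using hint
  let G : MvPolynomial (Fin r) R := ∑ e ∈ P.support.attach, monomial e.1 (c e.1 e.2)
  have hmap : MvPolynomial.map (algebraMap R (Localization.Away g)) G =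
      C (algebraMap R (Localization.Away g) (g ^ a)) * P := by
    conv_rhs => rw [P.as_sum, ← Finset.sum_attach, Finset.mul_sum]
    rw [map_sum]
    refine Finset.sum_congr rfl fun e _ => ?_
    rw [map_monomial, hc e.1 e.2, C_mul_monomial, Algebra.smul_def]
  have hG : G.IsHomogeneous n := IsHomogeneous.sum _ _ _ fun e _ => isHomogeneous_monomial _ (by
    rw [Finsupp.degree_eq_weight_one]; exact hP (mem_support_iff.mp e.2))
  have hev : algebraMap R (Localization.Away g) (eval h G) ∈
      (J ^ (n + 1)).map (algebraMap R (Localization.Away g)) := by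
    rw [Ideal.map_pow, eval₂_comp, Function.comp_def, ← eval_map, hmap, eval_mul, eval_C]
    exact Ideal.mul_mem_left _ _ hmem
  obtain ⟨N, hN⟩ := exists_pow_mul_mem_map _ hev
  obtain ⟨M, hM⟩ := hq n G hG ⟨N, hN⟩ d
  have h1 := mem_map_of_pow_mul_mem _ hM
  rw [← coeff_map, hmap, coeff_C_mul, map_pow,
    Ideal.unit_mul_mem_iff_mem _ ((IsLocalization.Away.algebraMap_isUnit g).pow a)] at h1
  exact h1

/-- Local quasi-regularity gives data in the base ring, on arbitrarily small basic opens. -/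
theorem exists_data (hJ : PP16.IsLocallyQuasiRegular R J) (P : Ideal R) [P.IsPrime] (hP : J ≤ P) (u : R)
    (hu : u ∉ P) : ∃ g, g ∉ P ∧ u ∣ g ∧ ∃ (r : ℕ) (h : Fin r → R), Gen J g h ∧ QRg J g h := by
  classical
  obtain ⟨g, hg, r, f, hf, hspan⟩ := hJ P hP
  obtain ⟨⟨s, hs⟩, hint⟩ := IsLocalization.exist_integer_multiples (Submonoid.powers g) Finset.univ f
  obtain ⟨a, rfl⟩ := hs
  choose h0 hh0 using fun i => hint i (Finset.mem_univ i)
  have hfJ : ∀ i, algebraMap R (Localization.Away g) (h0 i) ∈ J.map (algebraMap R (Localization.Away g)) := by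
    intro i
    rw [hh0, ← hspan, Algebra.smul_def]
    exact Ideal.mul_mem_left _ _ (Ideal.subset_span ⟨i, rfl⟩)
  choose N hN using fun i => exists_pow_mul_mem_map _ (hfJ i)
  let M := ∑ i, N i
  let h : Fin r → R := fun i => g ^ M * h0 i
  have hunit : IsUnit (algebraMap R (Localization.Away g) (g ^ (M + a))) := by
    rw [map_pow]; exact (IsLocalization.Away.algebraMap_isUnit g).pow _
  have halg : ∀ i, algebraMap R (Localization.Away g) (h i) =
      algebraMap R (Localization.Away g) (g ^ (M + a)) * f i := fun i => by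
    rw [map_mul, hh0, Algebra.smul_def, ← mul_assoc, ← map_mul, ← pow_add]
  have hspan' : Ideal.span (Set.range fun i => algebraMap R (Localization.Away g) (h i)) =
      J.map (algebraMap R (Localization.Away g)) := by
    rw [← hspan]
    refine le_antisymm (Ideal.span_le.mpr ?_) (Ideal.span_le.mpr ?_)
    · rintro _ ⟨i, rfl⟩
      change algebraMap R _ (h i) ∈ Ideal.span (Set.range f)
      rw [halg]
      exact Ideal.mul_mem_left _ _ (Ideal.subset_span ⟨i, rfl⟩)
    · rintro _ ⟨i, rfl⟩
      rw [SetLike.mem_coe, ← Ideal.unit_mul_mem_iff_mem _ hunit, ← halg]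
      exact Ideal.subset_span ⟨i, rfl⟩
  have hgen : Gen J g h := by
    refine ⟨fun i => ?_, fun x hx => ?_⟩
    · obtain ⟨k, hk⟩ := Nat.exists_eq_add_of_le (Finset.single_le_sum (fun j _ => Nat.zero_le (N j)) (Finset.mem_univ i))
      change g ^ M * h0 i ∈ J
      rw [show M = N i + k from hk, pow_add, mul_comm (g ^ N i), mul_assoc]
      exact J.mul_mem_left _ (hN i)
    · refine exists_pow_mul_mem_map _ ?_
      rw [Ideal.map_span, ← Set.range_comp]
      exact hspan'.ge (Ideal.mem_map_of_mem _ hx)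
  have hq : QRg J g h := qrg_of_isQuasiRegular hgen
    (Groth.L14.QRR.isQuasiRegular_of_span_eq f _ hf (hspan'.trans hspan.symm))
  refine ⟨g * u, fun hmem => ?_, dvd_mul_left u g, r, h, hgen.mul u, hq.mul u⟩
  rcases Ideal.IsPrime.mem_or_mem ‹P.IsPrime› hmem with h' | h'
  exacts [hg h', hu h']

/-- Data in the base ring at every prime gives local quasi-regularity. -/
theorem isLocallyQuasiRegular_of_data
    (hd : ∀ (P : Ideal R) [P.IsPrime], J ≤ P → ∃ g, g ∉ P ∧ ∃ (r : ℕ) (h : Fin r → R), Gen J g h ∧ QRg J g h) :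
    PP16.IsLocallyQuasiRegular R J := by
  intro P _ hP
  obtain ⟨g, hg, r, h, hgen, hq⟩ := hd P hP
  exact ⟨g, hg, r, _, isQuasiRegular_of_qrg hgen hq, exists_data_span J hgen⟩

/-- Changing to another generating family of the same length. -/
theorem QRg.change {g : R} {r : ℕ} {h f : Fin r → R} (hh : Gen J g h) (hq : QRg J g h) (hf : Gen J g f) :
    QRg J g f :=
  qrg_of_isQuasiRegular hf (Groth.L14.QRR.isQuasiRegular_of_span_eq _ _ (isQuasiRegular_of_qrg hh hq)
    ((exists_data_span J hf).trans (exists_data_span J hh).symm))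

/-- The relation form of quasi-regularity in degree one. -/
theorem QRg.rel {g : R} {r : ℕ} {h : Fin r → R} (hq : QRg J g h) {a : Fin r → R}
    (ha : ∑ i, a i * h i = 0) (i : Fin r) : ∃ N : ℕ, g ^ N * a i ∈ J := by
  classical
  obtain ⟨N, hN⟩ := hq 1 (∑ j, C (a j) * X j) (Groth.L14.QRR.isHomogeneous_linear a)
    ⟨0, by simp [eval_sum, ha]⟩ (Finsupp.single i 1)
  rw [Groth.L14.QRR.coeff_linear] at hN
  exact ⟨N, hN⟩

end Groth.L14.LocQR
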