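import Groth.Agent.L14.PPSmooth.Criterion
import Groth.Agent.L14.PPFactor
import Mathlib.Algebra.Polynomial.Coeff
import Mathlib.Algebra.BigOperators.Ring.Finset

/-!
Monomials in the elements `1 ⊗ z_i - z_i ⊗ 1`, divided power operators, and the monomial bases of principal parts.
-/

set_option autoImplicit false

noncomputable section

universe u

open TensorProduct

namespace Groth.L14.PPSmooth

theorem mkGr_eq_zero_iff {B S : Type u} [CommRing B] [CommRing S] [Algebra B S] (I : Ideal S) (n : ℕ) {x : S}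
    (hx : x ∈ I ^ n) : mkGr B I n x hx = 0 ↔ x ∈ I ^ (n + 1) := by
  rw [show (0 : Gr B I n) = mkGr B I n 0 (zero_mem _) from rfl, mkGr_eq_iff, sub_zero]

variable {A B : Type u} [CommRing A] [CommRing B] [Algebra A B]
variable {ι : Type} [Fintype ι] (z : ι → B)

variable (A) in
/-- The monomial `ζ^p` with `ζ_i = 1 ⊗ z_i - z_i ⊗ 1`. -/
def mon (p : ι → ℕ) : B ⊗[A] B := ∏ i, (zeta A B (z i) : B ⊗[A] B) ^ p i

theorem mon_mem (p : ι → ℕ) : mon A z p ∈ KaehlerDifferential.ideal A B ^ (∑ i, p i) := by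
  rw [mon, ← Finset.prod_pow_eq_pow_sum]
  exact Ideal.prod_mem_prod fun i _ => Ideal.pow_mem_pow (zeta A B (z i)).2 _

theorem mon_mem_of_le {p : ι → ℕ} {n : ℕ} (h : n ≤ ∑ i, p i) :
    mon A z p ∈ KaehlerDifferential.ideal A B ^ n :=
  Ideal.pow_le_pow_right h (mon_mem z p)

theorem prod_zeta_comp {κ : Type*} [Fintype κ] (f : κ → ι) :
    ∏ j, (zeta A B (z (f j)) : B ⊗[A] B) = mon A z (counts f) := by
  have h := congrArg (MvPolynomial.aeval fun i => (zeta A B (z i) : B ⊗[A] B))
    (show ∏ j, (MvPolynomial.X (f j) : MvPolynomial ι B) = MvPolynomial.monomial (counts f) 1 by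
      rw [counts, MvPolynomial.monomial_sum_one]; rfl)
  rw [map_prod, MvPolynomial.aeval_monomial, map_one, one_mul] at h
  simp only [MvPolynomial.aeval_X] at h
  rw [h, Finsupp.prod_fintype _ _ fun i => pow_zero _]
  rfl

theorem sum_counts {κ : Type*} [Fintype κ] (f : κ → ι) : ∑ i, counts f i = Fintype.card κ := by
  rw [← degree_counts f, Finsupp.degree_eq_sum]

theorem phi_tprod {κ : Type u} [Fintype κ] (f : κ → ι) :
    phi A B κ (SymmetricPower.tprod B fun j => KaehlerDifferential.D A B (z (f j))) =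
      mkGr B (KaehlerDifferential.ideal A B) _ (mon A z (counts f))
        (mon_mem_of_le z (sum_counts f).ge) := by
  rw [show (fun j => KaehlerDifferential.D A B (z (f j))) =
    fun j => KaehlerDifferential.fromIdeal A B (zeta A B (z (f j))) from rfl, phi, symGr_tprod,
    mkGr_eq_iff, prod_zeta_comp, sub_self]
  exact zero_mem _

variable (A) in
/-- The span of the monomials with degree in `[j, k)`. -/
def monSpan (j k : ℕ) : Submodule B (B ⊗[A] B) :=
  Submodule.span B {x | ∃ p : ι → ℕ, j ≤ ∑ i, p i ∧ ∑ i, p i < k ∧ x = mon A z p}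

theorem monSpan_mono {j j' k k' : ℕ} (hj : j' ≤ j) (hk : k ≤ k') :
    monSpan A z j k ≤ monSpan A z j' k' :=
  Submodule.span_mono fun _ ⟨p, h1, h2, h3⟩ => ⟨p, hj.trans h1, h2.trans_le hk, h3⟩

section Span

variable (hz : Submodule.span B (Set.range fun i => KaehlerDifferential.D A B (z i)) = ⊤)
include hz

theorem pow_le_span_succ (k : ℕ) :
    (KaehlerDifferential.ideal A B ^ k).restrictScalars B ≤
      monSpan A z k (k + 1) ⊔ (KaehlerDifferential.ideal A B ^ (k + 1)).restrictScalars B := by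
  intro x hx
  have hk : Fintype.card (ULift.{u} (Fin k)) = k := by simp
  have key : ∀ w, ∃ y ∈ monSpan A z k (k + 1), ∃ hy : y ∈ KaehlerDifferential.ideal A B ^ _,
      phi A B (ULift.{u} (Fin k)) w = mkGr B (KaehlerDifferential.ideal A B) _ y hy := by
    intro w
    have hw : w ∈ (⊤ : Submodule B _) := Submodule.mem_top
    rw [← sym_span_eq_top (ι := ULift.{u} (Fin k)) _ hz] at hw
    induction hw using Submodule.span_induction with
    | mem w hw =>
      obtain ⟨f, rfl⟩ := hw
      refine ⟨mon A z (counts f), Submodule.subset_span ⟨counts f, ?_, ?_, rfl⟩, _, phi_tprod z f⟩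
      · rw [sum_counts, hk]
      · rw [sum_counts, hk]; omega
    | zero => exact ⟨0, zero_mem _, zero_mem _, map_zero _⟩
    | add v w _ _ hv hw =>
      obtain ⟨y, h1, h2, h3⟩ := hv
      obtain ⟨y', h1', h2', h3'⟩ := hw
      exact ⟨y + y', add_mem h1 h1', add_mem h2 h2', by rw [map_add, h3, h3', mkGr_add]⟩
    | smul b w _ hw =>
      obtain ⟨y, h1, h2, h3⟩ := hw
      exact ⟨b • y, Submodule.smul_mem _ b h1, Submodule.smul_of_tower_mem _ b h2,
        by rw [map_smul, h3, mkGr_smul]⟩
  have hx' : x ∈ KaehlerDifferential.ideal A B ^ Fintype.card (ULift.{u} (Fin k)) := by rw [hk]; exact hx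
  obtain ⟨w, hw⟩ := phi_surjective A B (ULift.{u} (Fin k))
    (mkGr B (KaehlerDifferential.ideal A B) _ x hx')
  obtain ⟨y, hy, hy', hphi⟩ := key w
  have h := (mkGr_eq_iff B _ _ hx' hy').mp (hw.symm.trans hphi)
  rw [hk] at h
  rw [show x = y + (x - y) by abel]
  exact add_mem (Submodule.mem_sup_left hy) (Submodule.mem_sup_right h)

theorem pow_le_span (j d : ℕ) :
    (KaehlerDifferential.ideal A B ^ j).restrictScalars B ≤
      monSpan A z j (j + d) ⊔ (KaehlerDifferential.ideal A B ^ (j + d)).restrictScalars B := by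
  induction d with
  | zero => exact le_sup_right
  | succ d ih =>
    refine ih.trans (sup_le (le_sup_of_le_left (monSpan_mono z le_rfl (Nat.le_succ _))) ?_)
    exact (pow_le_span_succ z hz (j + d)).trans
      (sup_le_sup_right (monSpan_mono z (Nat.le_add_right _ _) le_rfl) _)

theorem mem_monSpan_sup (m : ℕ) (x : B ⊗[A] B) :
    x ∈ monSpan A z 0 m ⊔ (KaehlerDifferential.ideal A B ^ m).restrictScalars B := by
  have h := pow_le_span z hz 0 m
  rw [Nat.zero_add] at h
  exact h (by simp)

end Span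

section Operators

variable (A B) in
/-- The `B`-linear form `b ⊗ c ↦ b D(c)` of an operator. -/
def opForm (D : B →ₗ[A] B) : B ⊗[A] B →ₗ[B] B :=
  TensorProduct.AlgebraTensorModule.lift (LinearMap.toSpanSingleton B (B →ₗ[A] B) D)

theorem opForm_tmul (D : B →ₗ[A] B) (b c : B) : opForm A B D (b ⊗ₜ c) = b * D c := rfl

theorem opForm_act (D : B →ₗ[A] B) (x : B ⊗[A] B) (m : B) :
    opForm A B D (((1 : B) ⊗ₜ m) * x) = Groth.L07.DiffOp.act D x m := by
  induction x using TensorProduct.induction_on with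
  | zero => simp
  | tmul b c =>
    rw [Algebra.TensorProduct.tmul_mul_tmul, one_mul, opForm_tmul, Groth.L07.DiffOp.act_tmul, smul_eq_mul,
      smul_eq_mul, mul_comm m c]
  | add x y hx hy => rw [mul_add, map_add, map_add, LinearMap.add_apply, hx, hy]

theorem isDiffOpLE_iff_opForm (n : ℕ) (D : B →ₗ[A] B) :
    Diff16.IsDiffOpLE A B B B n D ↔
      ∀ x ∈ KaehlerDifferential.ideal A B ^ (n + 1), opForm A B D x = 0 := by
  rw [Groth.L07.DiffOp.isDiffOpLE_iff_act_diagIdeal_pow (B' := B), Groth.L14.PP.diagIdeal_eq]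
  constructor
  · intro h x hx
    rw [← one_mul x, Algebra.TensorProduct.one_def, opForm_act, h x hx, LinearMap.zero_apply]
  · intro h x hx
    ext m
    rw [← opForm_act, h _ (Ideal.mul_mem_left _ _ hx), LinearMap.zero_apply]

theorem opForm_add (D E : B →ₗ[A] B) : opForm A B (D + E) = opForm A B D + opForm A B E := by
  ext b
  simp [opForm_tmul, mul_add]

theorem opForm_smul (a : B) (D : B →ₗ[A] B) : opForm A B (a • D) = a • opForm A B D := by
  ext b
  simp [opForm_tmul, mul_left_comm]

theorem opForm_sum {κ : Type*} (s : Finset κ) (D : κ → B →ₗ[A] B) (x : B ⊗[A] B) :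
    opForm A B (∑ k ∈ s, D k) x = ∑ k ∈ s, opForm A B (D k) x := by
  classical
  induction s using Finset.induction_on with
  | empty =>
    induction x using TensorProduct.induction_on with
    | zero => simp
    | tmul b c => simp [opForm_tmul]
    | add x y hx hy => simp [map_add, hx, hy] at *
  | insert k s hk ih => rw [Finset.sum_insert hk, Finset.sum_insert hk, opForm_add, LinearMap.add_apply, ih]

theorem one_tmul_eq (x : B) : (1 : B) ⊗ₜ[A] x = (zeta A B x : B ⊗[A] B) + x ⊗ₜ[A] (1 : B) :=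
  (sub_add_cancel _ _).symm

theorem binom_delta (x : B) (p q : ℕ) :
    ∑ r ∈ Finset.range (q + 1), (q.choose r : B) * (-x) ^ (q - r) * ((r.choose p : B) * x ^ (r - p)) =
      if p = q then 1 else 0 := by
  have h : (Polynomial.X : Polynomial B) ^ q =
      ((Polynomial.X + Polynomial.C x) + Polynomial.C (-x)) ^ q := by simp
  have h1 := congrArg (fun P => Polynomial.coeff P p) h
  simp only [Polynomial.coeff_X_pow] at h1
  rw [h1, add_pow, Polynomial.finsetSum_coeff]
  refine Finset.sum_congr rfl fun r _ => ?_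
  rw [← map_natCast (Polynomial.C (R := B)), ← map_pow (Polynomial.C (R := B)), Polynomial.coeff_mul_C,
    Polynomial.coeff_mul_C, Polynomial.coeff_X_add_C_pow]
  ring

variable [DecidableEq ι]

/-- The condition on a family of operators in the statements. -/
def IsDP (Dp : (ι → ℕ) → (B →ₗ[A] B)) : Prop :=
  ∀ p q : ι → ℕ, Dp p (∏ i, z i ^ q i) =
    ((∏ i, Nat.choose (q i) (p i) : ℕ) : B) * ∏ i, z i ^ (q i - p i)

variable {z} {Dp : (ι → ℕ) → (B →ₗ[A] B)} (hDz : IsDP z Dp)
include hDz

theorem opForm_mon (p q : ι → ℕ) : opForm A B (Dp p) (mon A z q) = if p = q then 1 else 0 := by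
  have e : ∀ i, (zeta A B (z i) : B ⊗[A] B) ^ q i =
      ∑ r ∈ Finset.range (q i + 1), (((q i).choose r : B) * (-z i) ^ (q i - r)) ⊗ₜ[A] (z i ^ r) := fun i => by
    rw [show (zeta A B (z i) : B ⊗[A] B) = (1 : B) ⊗ₜ z i + (-z i) ⊗ₜ (1 : B) by
      rw [TensorProduct.neg_tmul, ← sub_eq_add_neg]; rfl, add_pow]
    refine Finset.sum_congr rfl fun r _ => ?_
    rw [Algebra.TensorProduct.tmul_pow, Algebra.TensorProduct.tmul_pow, one_pow, one_pow,
      Algebra.TensorProduct.tmul_mul_tmul, Algebra.TensorProduct.natCast_def,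
      Algebra.TensorProduct.tmul_mul_tmul, mul_one, one_mul, mul_one, mul_comm]
  rw [mon, Finset.prod_congr rfl fun i _ => e i, Finset.prod_univ_sum, map_sum]
  have e2 : ∀ (s : Finset ι) (f g : ι → B), ∏ i ∈ s, f i ⊗ₜ[A] g i = (∏ i ∈ s, f i) ⊗ₜ[A] (∏ i ∈ s, g i) := by
    intro s f g
    induction s using Finset.induction_on with
    | empty => simp [Algebra.TensorProduct.one_def]
    | insert a s ha ih =>
      rw [Finset.prod_insert ha, Finset.prod_insert ha, Finset.prod_insert ha, ih,
        Algebra.TensorProduct.tmul_mul_tmul]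
  rw [Finset.sum_congr rfl fun r _ => by
    rw [e2, opForm_tmul, hDz p r, Nat.cast_prod, ← Finset.prod_mul_distrib, ← Finset.prod_mul_distrib]]
  have h := Finset.prod_univ_sum (fun i => Finset.range (q i + 1))
    (fun i r => ((q i).choose r : B) * (-z i) ^ (q i - r) * ((r.choose (p i) : B) * z i ^ (r - p i)))
  rw [← h, Finset.prod_congr rfl fun i _ => binom_delta (z i) (p i) (q i)]
  by_cases hpq : p = q
  · simp [hpq]
  · rw [if_neg hpq]
    obtain ⟨i, hi⟩ := Function.ne_iff.mp hpq
    exact Finset.prod_eq_zero (Finset.mem_univ i) (if_neg hi)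

variable (hz : Submodule.span B (Set.range fun i => KaehlerDifferential.D A B (z i)) = ⊤)
  (hD : ∀ p, ∃ k : ℕ, Diff16.IsDiffOpLE A B B B k (Dp p))
include hz hD

theorem isDiffOpLE_dp (p : ι → ℕ) : Diff16.IsDiffOpLE A B B B (∑ i, p i) (Dp p) := by
  obtain ⟨k, hk⟩ := hD p
  rw [isDiffOpLE_iff_opForm] at hk ⊢
  intro x hx
  have h := pow_le_span z hz (∑ i, p i + 1) (k + 1) hx
  obtain ⟨y, hy, w, hw, rfl⟩ := Submodule.mem_sup.mp h
  rw [map_add, hk w (Ideal.pow_le_pow_right (by omega) hw), add_zero]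
  refine Submodule.span_induction (p := fun c _ => opForm A B (Dp p) c = 0) ?_ (map_zero _)
    (fun a b _ _ ha hb => by rw [map_add, ha, hb, add_zero])
    (fun r a _ ha => by rw [map_smul, ha, smul_zero]) hy
  rintro _ ⟨q, hq, -, rfl⟩
  rw [opForm_mon hDz, if_neg]
  rintro rfl
  omega

theorem opForm_dp_eq_zero (p : ι → ℕ) {n : ℕ} (hn : ∑ i, p i < n) {x : B ⊗[A] B}
    (hx : x ∈ KaehlerDifferential.ideal A B ^ n) : opForm A B (Dp p) x = 0 :=
  (isDiffOpLE_iff_opForm _ _).mp (isDiffOpLE_dp hDz hz hD p) x (Ideal.pow_le_pow_right hn hx)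

theorem existsUnique_coeff (m : ℕ) (D : B →ₗ[A] B) (hDm : Diff16.IsDiffOpLE A B B B m D) :
    ∃! a : {p : ι → ℕ // ∑ i, p i ≤ m} →₀ B, D = a.sum fun p c => c • Dp p.1 := by
  classical
  haveI : Finite {p : ι → ℕ // ∑ i, p i ≤ m} :=
    Finite.of_injective (β := ι → Fin (m + 1))
      (fun p i => ⟨p.1 i, Nat.lt_succ_of_le ((Finset.single_le_sum (fun j _ => Nat.zero_le (p.1 j))
        (Finset.mem_univ i)).trans p.2)⟩)
      fun p q h => Subtype.ext (funext fun i => congrArg Fin.val (congrFun h i))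
  haveI := Fintype.ofFinite {p : ι → ℕ // ∑ i, p i ≤ m}
  have hsum : ∀ a : {p : ι → ℕ // ∑ i, p i ≤ m} →₀ B,
      a.sum (fun p c => c • Dp p.1) = ∑ p, a p • Dp p.1 := fun a =>
    Finsupp.sum_fintype _ _ fun p => zero_smul _ _
  have hval : ∀ (a : {p : ι → ℕ // ∑ i, p i ≤ m} → B) (q : {p : ι → ℕ // ∑ i, p i ≤ m}),
      opForm A B (∑ p, a p • Dp p.1) (mon A z q.1) = a q := fun a q => by
    rw [opForm_sum, Finset.sum_eq_single q]
    · rw [opForm_smul, LinearMap.smul_apply, opForm_mon hDz, if_pos rfl, smul_eq_mul, mul_one]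
    · intro p _ hp
      rw [opForm_smul, LinearMap.smul_apply, opForm_mon hDz,
        if_neg fun h => hp (Subtype.ext h), smul_zero]
    · simp
  refine ⟨Finsupp.equivFunOnFinite.symm fun q => opForm A B D (mon A z q.1), ?_, fun a ha => ?_⟩
  · change D = Finsupp.sum _ _
    rw [hsum]
    simp only [Finsupp.equivFunOnFinite_symm_apply_apply]
    refine LinearMap.ext fun b => ?_
    set D' := ∑ p : {p : ι → ℕ // ∑ i, p i ≤ m}, opForm A B D (mon A z p.1) • Dp p.1 with hD'
    suffices h : ∀ x, opForm A B D x = opForm A B D' x by simpa [opForm_tmul] using h ((1 : B) ⊗ₜ b)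
    intro x
    obtain ⟨y, hy, w, hw, rfl⟩ := Submodule.mem_sup.mp (mem_monSpan_sup z hz (m + 1) x)
    have hw1 : opForm A B D w = 0 := (isDiffOpLE_iff_opForm _ _).mp hDm w hw
    have hw2 : opForm A B D' w = 0 := by
      rw [hD', opForm_sum]
      refine Finset.sum_eq_zero fun p _ => ?_
      rw [opForm_smul, LinearMap.smul_apply, opForm_dp_eq_zero hDz hz hD p.1 (Nat.lt_succ_of_le p.2) hw,
        smul_zero]
    rw [map_add, map_add, hw1, hw2, add_zero, add_zero]
    refine Submodule.span_induction (p := fun c _ => opForm A B D c = opForm A B D' c) ?_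
      (by rw [map_zero, map_zero])
      (fun a b _ _ ha hb => by rw [map_add, map_add, ha, hb])
      (fun r a _ ha => by rw [map_smul, map_smul, ha]) hy
    rintro _ ⟨q, -, hq, rfl⟩
    exact (hval (fun p => opForm A B D (mon A z p.1)) ⟨q, Nat.le_of_lt_succ hq⟩).symm
  · refine Finsupp.ext fun q => ?_
    rw [Finsupp.equivFunOnFinite_symm_apply_apply, ha, hsum, hval]

theorem exists_basis_kaehler :
    ∃ b : Module.Basis ι B (KaehlerDifferential A B), ∀ i, b i = KaehlerDifferential.D A B (z i) := by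
  classical
  have li : LinearIndependent B fun i => KaehlerDifferential.D A B (z i) := by
    refine Fintype.linearIndependent_iff.mpr fun g hg j => ?_
    have h0 : KaehlerDifferential.fromIdeal A B (∑ i, g i • zeta A B (z i)) =
        KaehlerDifferential.fromIdeal A B 0 := by
      rw [map_sum, map_zero, ← hg]
      exact Finset.sum_congr rfl fun i _ => LinearMap.map_smul_of_tower _ _ _
    have h2 := opForm_dp_eq_zero hDz hz hD (Pi.single j 1) (n := 2)
      (by simp [Finset.sum_pi_single']) ((conormal_kaehler A B).eq_iff _ _ |>.mp h0)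
    have e : ∀ i, (zeta A B (z i) : B ⊗[A] B) = mon A z (Pi.single i 1) := fun i => by
      rw [mon, Finset.prod_eq_single i (fun k _ hk => by rw [Pi.single_eq_of_ne hk, pow_zero]) (by simp),
        Pi.single_eq_same, pow_one]
    rw [Submodule.coe_zero, sub_zero, AddSubmonoidClass.coe_finsetSum, map_sum, Finset.sum_eq_single j] at h2
    · rwa [Submodule.coe_smul_of_tower, map_smul, e, opForm_mon hDz, if_pos rfl, smul_eq_mul, mul_one] at h2
    · intro i _ hi
      rw [Submodule.coe_smul_of_tower, map_smul, e, opForm_mon hDz, if_neg, smul_zero]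
      intro h
      have := congrFun h j
      simp [Pi.single_eq_of_ne (Ne.symm hi)] at this
    · simp
  exact ⟨Module.Basis.mk li hz.ge, fun i => Module.Basis.mk_apply _ _ _⟩

theorem isDiffSmooth_of_dp : PP16.IsDiffSmooth A B := by
  classical
  obtain ⟨b, -⟩ := exists_basis_kaehler hDz hz hD
  refine isDiffSmooth_of_injective A B (Module.Projective.of_basis b) fun κ _ => ?_
  rw [injective_iff_map_eq_zero]
  intro x hx
  have hxm : x ∈ (⊤ : Submodule B _) := Submodule.mem_top
  rw [← sym_span_eq_top (ι := κ) _ hz, Submodule.mem_span_range_iff_exists_fun] at hxm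
  obtain ⟨c, rfl⟩ := hxm
  have hy : ∑ f : κ → ι, c f • mon A z (counts f) ∈ KaehlerDifferential.ideal A B ^ (Fintype.card κ + 1) := by
    have hm : ∀ f : κ → ι, c f • mon A z (counts f) ∈ KaehlerDifferential.ideal A B ^ Fintype.card κ :=
      fun f => Submodule.smul_of_tower_mem _ _ (mon_mem_of_le z (sum_counts f).ge)
    have h1 : ∀ s : Finset (κ → ι), ∃ h, phi A B κ (∑ f ∈ s, c f •
        SymmetricPower.tprod B fun j => KaehlerDifferential.D A B (z (f j))) =
        mkGr B (KaehlerDifferential.ideal A B) _ (∑ f ∈ s, c f • mon A z (counts f)) h := fun s => by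
      induction s using Finset.induction_on with
      | empty => exact ⟨by simp, by simp only [Finset.sum_empty, map_zero]; rfl⟩
      | insert f s hf ih =>
        obtain ⟨h, hh⟩ := ih
        refine ⟨by rw [Finset.sum_insert hf]; exact add_mem (hm f) h, ?_⟩
        rw [Finset.sum_insert hf, map_add, map_smul, phi_tprod, hh, ← mkGr_smul, ← mkGr_add, mkGr_eq_iff,
          Finset.sum_insert hf, sub_self]
        exact zero_mem _
    obtain ⟨h, hh⟩ := h1 Finset.univ
    rw [hh] at hx
    exact (mkGr_eq_zero_iff _ _ _).mp hx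
  rw [← Finset.sum_fiberwise_of_maps_to (t := Finset.univ.image fun f : κ → ι => ⇑(counts f))
    (fun f _ => Finset.mem_image_of_mem _ (Finset.mem_univ f))]
  refine Finset.sum_eq_zero fun p hp => ?_
  obtain ⟨f₀, -, rfl⟩ := Finset.mem_image.mp hp
  have hdeg := sum_counts f₀
  have h2 := opForm_dp_eq_zero hDz hz hD (⇑(counts f₀)) (Nat.lt_succ_of_le hdeg.le) hy
  simp only [map_sum, map_smul, opForm_mon hDz, smul_eq_mul, mul_ite, mul_one, mul_zero] at h2
  rw [← Finset.sum_filter] at h2
  rw [Finset.sum_congr rfl fun f hf => congrArg (c f • ·)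
      (tprod_eq_of_counts (fun i => KaehlerDifferential.D A B (z i))
        (DFunLike.coe_injective (Finset.mem_filter.mp hf).2)),
    ← Finset.sum_smul]
  simp only [eq_comm (a := ⇑(counts f₀))] at h2
  rw [h2, zero_smul]

end Operators

section Basis

variable [DecidableEq ι] (hB : PP16.IsDiffSmooth A B)
  (bΩ : Module.Basis ι B (KaehlerDifferential A B)) (hb : ∀ i, bΩ i = KaehlerDifferential.D A B (z i))
include hB hb

/-- Homogeneous independence of the monomials. -/
theorem coeff_eq_zero (k : ℕ) (s : Finset (ι → ℕ)) (hs : ∀ p ∈ s, ∑ i, p i = k) (a : (ι → ℕ) → B)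
    (h : ∑ p ∈ s, a p • mon A z p ∈ KaehlerDifferential.ideal A B ^ (k + 1)) : ∀ p ∈ s, a p = 0 := by
  classical
  have hk : Fintype.card (ULift.{u} (Fin k)) = k := by simp
  have hf : ∀ p : s, ∃ f : ULift.{u} (Fin k) → ι, ⇑(counts f) = p.1 := fun p => by
    let e : (Σ i, Fin (p.1 i)) ≃ ULift.{u} (Fin k) := Fintype.equivOfCardEq (by simp [hs p.1 p.2])
    refine ⟨fun j => (e.symm j).1, funext fun i => ?_⟩
    rw [counts_apply, Nat.card_congr ((e.symm.subtypeEquiv fun j => Iff.rfl).trans
      (Equiv.sigmaSubtype (β := fun i => Fin (p.1 i)) i)), Nat.card_fin]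
  choose f hf using hf
  let x := ∑ p : s, a p.1 • SymmetricPower.tprod B fun j => KaehlerDifferential.D A B (z (f p j))
  have hm : ∀ p : s, a p.1 • mon A z p.1 ∈ KaehlerDifferential.ideal A B ^ Fintype.card (ULift.{u} (Fin k)) :=
    fun p => Submodule.smul_of_tower_mem _ _ (mon_mem_of_le z (by rw [hk, hs p.1 p.2]))
  have h1 : ∀ t : Finset s, ∃ h, phi A B (ULift.{u} (Fin k)) (∑ p ∈ t, a p.1 •
      SymmetricPower.tprod B fun j => KaehlerDifferential.D A B (z (f p j))) =
      mkGr B (KaehlerDifferential.ideal A B) _ (∑ p ∈ t, a p.1 • mon A z p.1) h := fun t => by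
    induction t using Finset.induction_on with
    | empty => exact ⟨by simp, by simp only [Finset.sum_empty, map_zero]; rfl⟩
    | insert p t hp ih =>
      obtain ⟨h', hh⟩ := ih
      refine ⟨by rw [Finset.sum_insert hp]; exact add_mem (hm p) h', ?_⟩
      rw [Finset.sum_insert hp, map_add, map_smul, phi_tprod, hh, ← mkGr_smul, ← mkGr_add, mkGr_eq_iff,
        Finset.sum_insert hp, hf p, sub_self]
      exact zero_mem _
  have hx : phi A B (ULift.{u} (Fin k)) x = 0 := by
    obtain ⟨h', hh⟩ := h1 Finset.univ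
    refine hh.trans ((mkGr_eq_zero_iff _ _ _).mpr ?_)
    rw [hk, Finset.sum_coe_sort s fun p => a p • mon A z p]
    exact h
  have hx0 : x = 0 := phi_injective A B hB _ (hx.trans (map_zero _).symm)
  let g : MultilinearMap B (fun _ : ULift.{u} (Fin k) => KaehlerDifferential A B) (MvPolynomial ι B) :=
    (MultilinearMap.mkPiAlgebra B (ULift.{u} (Fin k)) (MvPolynomial ι B)).compLinearMap
      fun _ => lin B ∘ₗ bΩ.repr.toLinearMap
  have hg : ∀ (e : Equiv.Perm (ULift.{u} (Fin k))) (m : ULift.{u} (Fin k) → KaehlerDifferential A B),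
      g (fun i => m (e i)) = g m := fun e m => by
    simp only [g, MultilinearMap.compLinearMap_apply, MultilinearMap.mkPiAlgebra_apply]
    exact Equiv.prod_comp e fun i => (lin B ∘ₗ bΩ.repr.toLinearMap) (m i)
  have hP := congrArg (symLift g hg) hx0
  simp only [x, map_sum, map_smul, symLift_tprod, map_zero] at hP
  intro q hq
  have hval : ∀ p : s, g (fun j => KaehlerDifferential.D A B (z (f p j))) =
      MvPolynomial.monomial (counts (f p)) 1 := fun p => by
    simp only [g, MultilinearMap.compLinearMap_apply, MultilinearMap.mkPiAlgebra_apply, LinearMap.comp_apply,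
      LinearEquiv.coe_coe, ← hb, Module.Basis.repr_self, lin_single, one_smul]
    exact prod_X_eq (f p)
  have hP' := congrArg (MvPolynomial.coeff (counts (f ⟨q, hq⟩))) hP
  rw [MvPolynomial.coeff_sum, MvPolynomial.coeff_zero, Finset.sum_eq_single ⟨q, hq⟩] at hP'
  · simpa [hval, MvPolynomial.coeff_smul] using hP'
  · intro p _ hp
    rw [hval, MvPolynomial.coeff_smul, MvPolynomial.coeff_monomial, if_neg, smul_zero]
    intro he
    exact hp (Subtype.ext (by rw [← hf p, he, hf]))
  · simp

/-- Independence of all monomials of degree at most `m` modulo `I^(m+1)`. -/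
theorem coeff_eq_zero_all (m : ℕ) (s : Finset (ι → ℕ)) (hs : ∀ p ∈ s, ∑ i, p i ≤ m) (a : (ι → ℕ) → B)
    (h : ∑ p ∈ s, a p • mon A z p ∈ KaehlerDifferential.ideal A B ^ (m + 1)) : ∀ p ∈ s, a p = 0 := by
  classical
  suffices key : ∀ k, ∀ p ∈ s, ∑ i, p i < k → a p = 0 from fun p hp => key _ p hp (Nat.lt_succ_self _)
  intro k
  induction k with
  | zero => exact fun p _ h => absurd h (Nat.not_lt_zero _)
  | succ k ih =>
    intro p hp hlt
    rcases Nat.lt_succ_iff_lt_or_eq.mp hlt with hlt | heq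
    · exact ih p hp hlt
    refine coeff_eq_zero z hB bΩ hb k (s.filter fun p => ∑ i, p i = k)
      (fun p hp => (Finset.mem_filter.mp hp).2) a ?_ p (Finset.mem_filter.mpr ⟨hp, heq⟩)
    rw [← Finset.sum_filter_add_sum_filter_not s fun p => ∑ i, p i = k] at h
    have hkm : k + 1 ≤ m + 1 := by have := hs p hp; omega
    have h2 : ∑ p ∈ s.filter (fun p => ¬ ∑ i, p i = k), a p • mon A z p ∈
        KaehlerDifferential.ideal A B ^ (k + 1) := by
      refine Ideal.sum_mem _ fun r hr => ?_
      obtain ⟨hrs, hrk⟩ := Finset.mem_filter.mp hr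
      rcases Nat.lt_or_gt_of_ne hrk with hlt' | hgt
      · rw [ih r hrs hlt', zero_smul]; exact zero_mem _
      · exact Submodule.smul_of_tower_mem _ _ (mon_mem_of_le z hgt)
    simpa using sub_mem (Ideal.pow_le_pow_right hkm h) h2

/-- The monomial basis of `P^m`. -/
theorem exists_basis_P (m : ℕ) :
    ∃ b : Module.Basis {p : ι → ℕ // ∑ i, p i ≤ m} B (PP16.P m A B),
      ∀ p, b p = ∏ i, (PP16.dn m A B (z i) - algebraMap B (PP16.P m A B) (z i)) ^ (p.1 i) := by
  classical
  have hmk : ∀ p : ι → ℕ, ∏ i, (PP16.dn m A B (z i) - algebraMap B (PP16.P m A B) (z i)) ^ (p i) =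
      Ideal.Quotient.mkₐ B _ (mon A z p) := fun p => by
    simp only [mon, map_prod, map_pow]
    rfl
  have hz : Submodule.span B (Set.range fun i => KaehlerDifferential.D A B (z i)) = ⊤ := by
    rw [← bΩ.span_eq]
    exact congrArg _ (congrArg Set.range (funext fun i => (hb i).symm))
  let v : {p : ι → ℕ // ∑ i, p i ≤ m} → PP16.P m A B :=
    fun p => Ideal.Quotient.mkₐ B _ (mon A z p.1)
  have li : LinearIndependent B v := by
    rw [linearIndependent_iff']
    intro t g hg q hq
    let a : (ι → ℕ) → B := fun p => if h : ∑ i, p i ≤ m then g ⟨p, h⟩ else 0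
    have ha : ∀ p : {p : ι → ℕ // ∑ i, p i ≤ m}, a p.1 = g p := fun p => dif_pos p.2
    have h := coeff_eq_zero_all z hB bΩ hb m (t.map (Function.Embedding.subtype _))
      (fun p hp => by obtain ⟨r, -, rfl⟩ := Finset.mem_map.mp hp; exact r.2) a ?_ q.1
      (Finset.mem_map.mpr ⟨q, hq, rfl⟩)
    · rwa [ha] at h
    rw [Finset.sum_map]
    refine Ideal.Quotient.eq_zero_iff_mem.mp ?_
    rw [← Ideal.Quotient.mkₐ_eq_mk B, map_sum, ← hg]
    exact Finset.sum_congr rfl fun r _ => by
      rw [Function.Embedding.coe_subtype, ha, map_smul]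
  have sp : ⊤ ≤ Submodule.span B (Set.range v) := by
    rintro x -
    obtain ⟨x, rfl⟩ := Ideal.Quotient.mkₐ_surjective B _ x
    obtain ⟨y, hy, w, hw, rfl⟩ := Submodule.mem_sup.mp (mem_monSpan_sup z hz (m + 1) x)
    rw [map_add, show Ideal.Quotient.mkₐ B _ w = 0 from Ideal.Quotient.eq_zero_iff_mem.mpr hw, add_zero]
    refine Submodule.span_induction (p := fun c _ => Ideal.Quotient.mkₐ B _ c ∈ Submodule.span B (Set.range v))
      ?_ (by simp) (fun a b _ _ ha hb => by rw [map_add]; exact add_mem ha hb)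
      (fun r a _ ha => by rw [map_smul]; exact Submodule.smul_mem _ r ha) hy
    rintro _ ⟨q, -, hq, rfl⟩
    exact Submodule.subset_span ⟨⟨q, Nat.le_of_lt_succ hq⟩, rfl⟩
  exact ⟨Module.Basis.mk li sp, fun p => by rw [Module.Basis.mk_apply, hmk]⟩

theorem exists_dp : ∃ Dp : (ι → ℕ) → (B →ₗ[A] B),
    (∀ p, ∃ k : ℕ, Diff16.IsDiffOpLE A B B B k (Dp p)) ∧ IsDP z Dp := by
  classical
  have hb' := fun m => exists_basis_P z hB bΩ hb m
  choose bP hbP using hb'
  let F : ∀ p : ι → ℕ, B ⊗[A] B →ₗ[B] B := fun p =>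
    (bP (∑ i, p i)).coord ⟨p, le_rfl⟩ ∘ₗ (Ideal.Quotient.mkₐ B _).toLinearMap
  have hF : ∀ p r : ι → ℕ, F p (mon A z r) = if r = p then 1 else 0 := by
    intro p r
    change (bP (∑ i, p i)).coord ⟨p, le_rfl⟩ (Ideal.Quotient.mkₐ B _ (mon A z r)) = _
    by_cases hr : ∑ i, r i ≤ ∑ i, p i
    · have e : Ideal.Quotient.mkₐ B _ (mon A z r) = bP (∑ i, p i) ⟨r, hr⟩ := by
        rw [hbP]
        simp only [mon, map_prod, map_pow]
        rfl
      rw [e, Module.Basis.coord_apply, Module.Basis.repr_self, Finsupp.single_apply]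
      exact if_congr Subtype.ext_iff rfl rfl
    · rw [show Ideal.Quotient.mkₐ B _ (mon A z r) = 0 from
          Ideal.Quotient.eq_zero_iff_mem.mpr (mon_mem_of_le z (by omega)),
        map_zero, if_neg]
      rintro rfl
      exact hr le_rfl
  refine ⟨fun p => (F p).restrictScalars A ∘ₗ
    (Algebra.TensorProduct.includeRight (R := A) (A := B) (B := B)).toLinearMap, fun p => ⟨∑ i, p i, ?_⟩, ?_⟩
  · rw [isDiffOpLE_iff_opForm]
    intro x hx
    have h : ∀ y, opForm A B ((F p).restrictScalars A ∘ₗ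
        (Algebra.TensorProduct.includeRight (R := A) (A := B) (B := B)).toLinearMap) y = F p y := by
      intro y
      induction y using TensorProduct.induction_on with
      | zero => simp
      | tmul b c =>
        rw [opForm_tmul, show b ⊗ₜ[A] c = b • ((1 : B) ⊗ₜ[A] c) by
          rw [TensorProduct.smul_tmul', smul_eq_mul, mul_one], map_smul, smul_eq_mul]
        rfl
      | add y y' hy hy' => rw [map_add, map_add, hy, hy']
    rw [h]
    change (bP (∑ i, p i)).coord _ (Ideal.Quotient.mkₐ B _ x) = 0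
    rw [show Ideal.Quotient.mkₐ B _ x = 0 from Ideal.Quotient.eq_zero_iff_mem.mpr hx, map_zero]
  · intro p q
    change F p ((1 : B) ⊗ₜ[A] ∏ i, z i ^ q i) = _
    have e1 : (1 : B) ⊗ₜ[A] ∏ i, z i ^ q i = ∏ i, ((1 : B) ⊗ₜ[A] z i) ^ q i := by
      rw [← Algebra.TensorProduct.includeRight_apply, map_prod]
      exact Finset.prod_congr rfl fun i _ => map_pow _ _ _
    rw [e1, Finset.prod_congr rfl fun i _ => by rw [one_tmul_eq, add_pow],
      Finset.prod_univ_sum, map_sum]
    have e2 : ∀ r : ι → ℕ, ∏ i, (zeta A B (z i) : B ⊗[A] B) ^ r i * (z i ⊗ₜ[A] (1 : B)) ^ (q i - r i) *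
        ((q i).choose (r i) : B ⊗[A] B) =
        (((∏ i, Nat.choose (q i) (r i) : ℕ) : B) * ∏ i, z i ^ (q i - r i)) • mon A z r := fun r => by
      rw [Finset.prod_mul_distrib, Finset.prod_mul_distrib, Algebra.smul_def, map_mul, map_prod, map_natCast,
        Nat.cast_prod, mon]
      simp only [map_pow, Algebra.TensorProduct.algebraMap_apply, Algebra.algebraMap_self, RingHom.id_apply]
      ring
    rw [Finset.sum_congr rfl fun r _ => by rw [e2, map_smul, hF, smul_eq_mul, mul_ite, mul_one, mul_zero],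
      Finset.sum_ite_eq']
    split_ifs with hp
    · rfl
    · obtain ⟨i, hi⟩ : ∃ i, q i < p i := by
        by_contra hc
        exact hp (Fintype.mem_piFinset.mpr fun i => Finset.mem_range.mpr
          (Nat.lt_succ_of_le (not_lt.mp fun h => hc ⟨i, h⟩)))
      rw [Finset.prod_eq_zero (Finset.mem_univ i) (Nat.choose_eq_zero_of_lt hi), Nat.cast_zero, zero_mul]

end Basis

end Groth.L14.PPSmooth
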